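import Mathlib
import Cfsg.Agent.Lib.SL2Pres.Relations

/-!
Relations forcing a root homomorphism, merged with a further element commuting with the torus.
-/

set_option autoImplicit false

namespace CfsgLib.SL3Pres

open Polynomial CfsgLib.SL2Pres
open Multiplicative (ofAdd)

variable {G : Type*} [Group G]

theorem eq_one_of_fixed {h u : G} {b : ℤ} (tri : cj h u 1 = cj h u b * u)
    (hcomm : Commute u (cj h u 1)) :
    (∀ i : ℤ, Commute u (cj h u (i * 1))) ∧
      ∀ v ∈ span' h u 1, Commute h v → v = 1 := by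
  have hall : ∀ i : ℤ, Commute u (cj h u (i * 1)) := fun i => by
    simpa using commute_lattice tri hcomm i 0
  refine ⟨hall, ?_⟩
  set S := span' h u (1 : ℤ)
  have hgenS : ∀ d : ℤ, cj h u d ∈ S := fun d => Subgroup.subset_closure ⟨d, by simp⟩
  have hconjS : ∀ (c : ℤ) x, x ∈ S → h ^ c * x * (h ^ c)⁻¹ ∈ S := by
    intro c x hx
    induction hx using Subgroup.closure_induction with
    | mem x hx =>
      obtain ⟨i, rfl⟩ := hx
      rw [cj_conj]
      exact hgenS _
    | one => simp
    | mul x y _ _ hx hy => rw [← conj_mul]; exact mul_mem hx hy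
    | inv x _ hx => rw [← conj_inv]; exact inv_mem hx
  have hstep : ∀ x ∈ S, h ^ (1 : ℤ) * x * (h ^ (1 : ℤ))⁻¹ = h ^ b * x * (h ^ b)⁻¹ * x := by
    intro x hx
    induction hx using Subgroup.closure_induction with
    | mem x hx =>
      obtain ⟨i, rfl⟩ := hx
      simp only [cj_conj]
      rw [add_comm (1 : ℤ), add_comm b, ← cj_conj, ← cj_conj h u _ b, tri]
      simp only [cj]
      group
    | one => simp
    | mul x y hx' hy' hx hy =>
      have hc : Commute x (h ^ b * y * (h ^ b)⁻¹) := span'_comm hall hx' (hconjS _ _ hy')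
      rw [← conj_mul, hx, hy]
      exact (Commute.mul_mul_mul_comm hc _ _).trans (by rw [conj_mul])
    | inv x hx' hx =>
      rw [← conj_inv, hx, ← conj_inv, mul_inv_rev]
      exact ((span'_comm hall hx' (hconjS _ _ hx')).inv_inv).eq
  intro v hv hfix
  have := hstep v hv
  rw [(hfix.zpow_left 1).eq, mul_inv_cancel_right, (hfix.zpow_left b).eq,
    mul_inv_cancel_right] at this
  exact mul_eq_left.1 this.symm

variable {F : Type*} [Field F]

/-- The relations of the general case force the root homomorphism and kill `k`. -/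
theorem force_general {p : ℕ} [CharP F p] {t : F} {b : ℕ}
    (hgen : ∀ c : F, ∃ P : ℤ[X], aeval t P = c) {f : ℤ[X]}
    (hfker : ∀ P : ℤ[X], aeval t P = 0 → ∃ Q R : ℤ[X], P = f * Q + C (p : ℤ) * R)
    (u h k : G) (hk : Commute h k) (hcomm : Commute u (cj h u 1))
    (tri : cj h u 1 = cj h u (b : ℤ) * u) (hp : u ^ p * k = 1)
    (hf : polyWord h u 1 f = 1) :
    k = 1 ∧ ∃ X : Multiplicative F →* G, X (ofAdd 1) = u ∧
      ∀ c : F, h * X (ofAdd c) * h⁻¹ = X (ofAdd (t * c)) := by
  obtain ⟨hall, hfix⟩ := eq_one_of_fixed tri hcomm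
  have hu : u ∈ span' h u 1 := Subgroup.subset_closure ⟨0, by simp [cj]⟩
  have hup : u ^ p = 1 := hfix _ (pow_mem hu p) (by
    rw [eq_inv_of_mul_eq_one_left hp]; exact hk.inv_right)
  refine ⟨by rwa [hup, one_mul] at hp, ?_⟩
  refine CfsgLib.SL2Pres.exists_hom h u 1 hall t t hgen f Polynomial.X hup hf hfker ?_ (aeval_X t)
  simp [polyWord, List.range_succ, cj, coeff_X]

/-- In characteristic two three relations are enough. -/
theorem force_two [CharP F 2] {t : F} {b : ℕ} (hgen : ∀ c : F, ∃ P : ℤ[X], aeval t P = c)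
    {f : ℤ[X]} (hfker : ∀ P : ℤ[X], aeval t P = 0 → ∃ Q R : ℤ[X], P = f * Q + C (2 : ℤ) * R)
    (u h k : G) (hk : Commute h k) (huu : u ^ 2 = 1)
    (tri : cj h u 1 = cj h u (b : ℤ) * u) (hf : polyWord h u 1 f * k = 1) :
    k = 1 ∧ ∃ X : Multiplicative F →* G, X (ofAdd 1) = u ∧
      ∀ c : F, h * X (ofAdd c) * h⁻¹ = X (ofAdd (t * c)) := by
  have hinv : ∀ d, cj h u d * cj h u d = 1 := fun d => by
    rw [cj, conj_mul, ← pow_two, huu]; simp
  have hu' : u⁻¹ = u := inv_eq_of_mul_eq_one_right (by rwa [← pow_two])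
  have hcomm : Commute u (cj h u 1) := by
    have h1 := hinv 1
    rw [tri] at h1
    have h' : (cj h u (b : ℤ) * u)⁻¹ = cj h u (b : ℤ) * u := inv_eq_of_mul_eq_one_right h1
    rw [mul_inv_rev, hu', inv_eq_of_mul_eq_one_right (hinv _)] at h'
    rw [tri]
    exact Commute.mul_right h' (Commute.refl u)
  obtain ⟨hall, hfix⟩ := eq_one_of_fixed tri hcomm
  have hv : polyWord h u 1 f = 1 := hfix _ (polyWord_mem _ _ _ _) (by
    rw [eq_inv_of_mul_eq_one_left hf]; exact hk.inv_right)
  refine ⟨by rwa [hv, one_mul] at hf, ?_⟩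
  refine CfsgLib.SL2Pres.exists_hom h u 1 hall t t hgen f Polynomial.X (p := 2) huu hv
    (by exact_mod_cast hfker) ?_ (aeval_X t)
  simp [polyWord, List.range_succ, cj, coeff_X]

/-- The field with two elements. -/
theorem force_prime_two [CharP F 2] (h2 : ∀ x : F, x = 0 ∨ x = 1) (u : G) (huu : u ^ 2 = 1) :
    ∃ X : Multiplicative F →* G, X (ofAdd 1) = u := by
  classical
  refine ⟨{ toFun := fun a => if a.toAdd = 0 then 1 else u, map_one' := by simp,
            map_mul' := fun a b => ?_ }, by simp⟩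
  rw [toAdd_mul]
  rcases h2 a.toAdd with ha | ha <;> rcases h2 b.toAdd with hb | hb <;>
    simp [ha, hb, CharTwo.add_self_eq_zero, ← pow_two, huu]

end CfsgLib.SL3Pres
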