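import Mathlib

/-!
Commutator maps between two images of a field that land in a common centraliser.
-/

set_option autoImplicit false

namespace CfsgLib.SL3Pres

open Multiplicative (ofAdd)

variable {F : Type*} [Field F] {G : Type*} [Group G]

/-- The commutator `a b a⁻¹ b⁻¹`. -/
def cm (a b : G) : G := a * b * a⁻¹ * b⁻¹

theorem cm_eq_iff {a b z : G} : cm a b = z ↔ a * b * a⁻¹ = z * b := by
  rw [cm, mul_inv_eq_iff_eq_mul]

theorem cm_conj (g a b : G) : g * cm a b * g⁻¹ = cm (g * a * g⁻¹) (g * b * g⁻¹) := by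
  simp only [cm]; group

theorem cm_mul_left (p q r : G) : cm (p * q) r = p * cm q r * p⁻¹ * cm p r := by
  simp only [cm]; group

theorem cm_mul_right (p q r : G) : cm p (q * r) = cm p q * (q * cm p r * q⁻¹) := by
  simp only [cm]; group

/-- A set of nonzero elements generating the additive group. -/
def Spans (C : Set F) : Prop :=
  ∀ P : F → Prop, P 0 → (∀ a b, P a → P b → P (a + b)) → (∀ e ∈ C, P e) → ∀ a, P a

theorem Spans.coset {C : Set F} (hC : Spans C) {c : F} (hc : c ≠ 0) (P : F → Prop) (h0 : P 0)
    (hadd : ∀ a b, P a → P b → P (a + b)) (hbase : ∀ e ∈ C, P (c * e)) : ∀ a, P a := by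
  intro a
  have := hC (fun e => P (c * e)) (by simpa using h0)
    (fun x y hx hy => by show P (c * (x + y)); rw [mul_add]; exact hadd _ _ hx hy) hbase (a / c)
  simpa [mul_div_cancel₀ a hc] using this

variable (X V : Multiplicative F →* G)

theorem exists_bilinear {C : Set F} (hC : Spans C) (hC0 : ∀ r ∈ C, r ≠ 0)
    (hCm : ∀ r ∈ C, ∀ s ∈ C, r * s ∈ C) (hCi : ∀ r ∈ C, r⁻¹ ∈ C) (Z : F → G)
    (hB : ∀ a b, a ≠ 0 → b ≠ 0 → a / b ∈ C → cm (X (ofAdd a)) (V (ofAdd b)) = Z (a * b))
    (hX : ∀ γ, γ ≠ 0 → ∀ a, Commute (X (ofAdd a)) (Z γ))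
    (hV : ∀ γ, γ ≠ 0 → ∀ b, Commute (V (ofAdd b)) (Z γ)) :
    ∃ Y : Multiplicative F →* G,
      (∀ a b, cm (X (ofAdd a)) (V (ofAdd b)) = Y (ofAdd (a * b))) ∧
      (∀ a c, Commute (X (ofAdd a)) (Y (ofAdd c))) ∧
      (∀ b c, Commute (V (ofAdd b)) (Y (ofAdd c))) := by
  classical
  let Cn : G → Prop := fun g =>
    (∀ a, Commute (X (ofAdd a)) g) ∧ (∀ b, Commute (V (ofAdd b)) g)
  have hCnm : ∀ g g', Cn g → Cn g' → Cn (g * g') := fun g g' h h' =>
    ⟨fun a => (h.1 a).mul_right (h'.1 a), fun b => (h.2 b).mul_right (h'.2 b)⟩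
  have addL : ∀ a a' b, Cn (cm (X (ofAdd a')) (V (ofAdd b))) →
      cm (X (ofAdd (a + a'))) (V (ofAdd b))
        = cm (X (ofAdd a')) (V (ofAdd b)) * cm (X (ofAdd a)) (V (ofAdd b)) := by
    intro a a' b h
    rw [ofAdd_add, map_mul, cm_mul_left, (h.1 a).eq, mul_inv_cancel_right]
  have addR : ∀ a b b', Cn (cm (X (ofAdd a)) (V (ofAdd b'))) →
      cm (X (ofAdd a)) (V (ofAdd (b + b')))
        = cm (X (ofAdd a)) (V (ofAdd b)) * cm (X (ofAdd a)) (V (ofAdd b')) := by
    intro a b b' h
    rw [ofAdd_add, map_mul, cm_mul_right, (h.2 b).eq, mul_inv_cancel_right]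
  have hCn1 : Cn 1 := ⟨fun _ => Commute.one_right _, fun _ => Commute.one_right _⟩
  have cm0L : ∀ b, cm (X (ofAdd 0)) (V (ofAdd b)) = 1 := fun b => by simp [cm]
  have cm0R : ∀ a, cm (X (ofAdd a)) (V (ofAdd 0)) = 1 := fun a => by simp [cm]
  have hall : ∀ a b, Cn (cm (X (ofAdd a)) (V (ofAdd b))) := by
    intro a b
    rcases eq_or_ne b 0 with rfl | hb
    · rw [cm0R]; exact hCn1
    · refine hC.coset hb (fun a => Cn (cm (X (ofAdd a)) (V (ofAdd b)))) ?_ ?_ ?_ a
      · rw [cm0L]; exact hCn1
      · intro x y hx hy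
        show Cn _
        rw [addL x y b hy]; exact hCnm _ _ hy hx
      · intro e he
        show Cn _
        have hbe : b * e ≠ 0 := mul_ne_zero hb (hC0 e he)
        rw [hB _ _ hbe hb (by rwa [mul_div_cancel_left₀ e hb])]
        exact ⟨hX _ (mul_ne_zero hbe hb), hV _ (mul_ne_zero hbe hb)⟩
  have bal : ∀ r a b : F,
      cm (X (ofAdd (r * a))) (V (ofAdd b)) = cm (X (ofAdd a)) (V (ofAdd (r * b))) := by
    refine hC (fun r => ∀ a b,
      cm (X (ofAdd (r * a))) (V (ofAdd b)) = cm (X (ofAdd a)) (V (ofAdd (r * b)))) ?_ ?_ ?_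
    · intro a b; simp only [zero_mul, cm0L, cm0R]
    · intro r s hr hs a b
      rw [add_mul, add_mul, addL _ _ _ (hall _ _), hs, hr, add_comm (r * b),
        addR _ _ _ (hall _ _)]
    · intro r hr a b
      rcases eq_or_ne b 0 with rfl | hb
      · simp only [mul_zero, cm0R]
      refine hC.coset hb (fun a =>
        cm (X (ofAdd (r * a))) (V (ofAdd b)) = cm (X (ofAdd a)) (V (ofAdd (r * b)))) ?_ ?_ ?_ a
      · simp only [mul_zero, cm0L]
      · intro x y hx hy
        show _ = _
        rw [mul_add, addL _ _ _ (hall _ _), addL _ _ _ (hall _ _), hx, hy]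
      · intro e he
        show _ = _
        have hr0 := hC0 r hr
        have he0 := hC0 e he
        rw [hB _ _ (mul_ne_zero hr0 (mul_ne_zero hb he0)) hb (by
            rw [show r * (b * e) / b = r * e by field_simp]; exact hCm r hr e he),
          hB _ _ (mul_ne_zero hb he0) (mul_ne_zero hr0 hb) (by
            rw [show b * e / (r * b) = e * r⁻¹ by field_simp]; exact hCm e he _ (hCi r hr))]
        congr 1; ring
  refine ⟨{ toFun := fun a => cm (X (ofAdd a.toAdd)) (V (ofAdd (1 : F)))
            map_one' := by simp [cm]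
            map_mul' := fun a b => by
              show cm (X (ofAdd (a.toAdd + b.toAdd))) _ = _
              rw [add_comm, addL _ _ _ (hall _ _)] },
    fun a b => ?_, fun a c => (hall c 1).1 a, fun b c => (hall c 1).2 b⟩
  show _ = cm (X (ofAdd (a * b))) (V (ofAdd (1 : F)))
  rw [mul_comm a b, bal b a 1, mul_one]

/-- A commutator formula known on a coset of `C` extends to all parameters. -/
theorem extend_comm {C : Set F} (hC : Spans C) (hC0 : ∀ r ∈ C, r ≠ 0)
    (Y W T : Multiplicative F →* G) (hcomm : ∀ a b, Commute (Y (ofAdd a)) (T (ofAdd b)))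
    (h : ∀ a b, a ≠ 0 → b ≠ 0 → a / b ∈ C →
      cm (Y (ofAdd a)) (W (ofAdd b)) = T (ofAdd (a * b))) :
    ∀ a b, cm (Y (ofAdd a)) (W (ofAdd b)) = T (ofAdd (a * b)) := by
  intro a b
  rcases eq_or_ne b 0 with rfl | hb
  · simp [cm]
  refine hC.coset hb (fun a => cm (Y (ofAdd a)) (W (ofAdd b)) = T (ofAdd (a * b))) ?_ ?_ ?_ a
  · simp [cm]
  · intro x y hx hy
    show _ = _
    rw [ofAdd_add, map_mul, cm_mul_left, hy, (hcomm x _).eq, mul_inv_cancel_right, hx,
      ← map_mul, ← ofAdd_add, add_mul, add_comm]
  · intro e he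
    exact h _ _ (mul_ne_zero hb (hC0 e he)) hb (by rwa [mul_div_cancel_left₀ e hb])

theorem spans_nonzero : Spans {x : F | x ≠ 0} := fun P h0 _ hbase a => by
  rcases eq_or_ne a 0 with rfl | ha
  · exact h0
  · exact hbase a ha

/-- The nonzero cubes. -/
def cubes (F : Type*) [Field F] : Set F := {x | ∃ e : Fˣ, x = (e : F) ^ 3}

theorem spans_cubes [Fintype F] (h4 : Fintype.card F ≠ 4) : Spans (cubes F) := by
  classical
  have hneg : ∀ x ∈ AddSubmonoid.closure (cubes F), -x ∈ AddSubmonoid.closure (cubes F) := by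
    intro x hx
    induction hx using AddSubmonoid.closure_induction with
    | mem x hx =>
      obtain ⟨e, rfl⟩ := hx
      exact AddSubmonoid.subset_closure ⟨-e, by simp; ring⟩
    | zero => simp
    | add x y _ _ hx hy => rw [neg_add]; exact add_mem hx hy
  have hmul : ∀ x ∈ AddSubmonoid.closure (cubes F), ∀ y ∈ AddSubmonoid.closure (cubes F),
      x * y ∈ AddSubmonoid.closure (cubes F) := by
    intro x hx
    induction hx using AddSubmonoid.closure_induction with
    | mem x hx =>
      intro y hy
      obtain ⟨e, rfl⟩ := hx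
      induction hy using AddSubmonoid.closure_induction with
      | mem y hy =>
        obtain ⟨d, rfl⟩ := hy
        exact AddSubmonoid.subset_closure ⟨e * d, by simp [mul_pow]⟩
      | zero => simp
      | add a b _ _ ha hb => rw [mul_add]; exact add_mem ha hb
    | zero => intro y _; simp
    | add a b _ _ ha hb => intro y hy; rw [add_mul]; exact add_mem (ha y hy) (hb y hy)
  let R : Subring F :=
    { carrier := AddSubmonoid.closure (cubes F)
      one_mem' := AddSubmonoid.subset_closure ⟨1, by simp⟩
      mul_mem' := fun {a b} ha hb => hmul a ha b hb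
      zero_mem' := zero_mem _
      add_mem' := fun {a b} ha hb => add_mem ha hb
      neg_mem' := fun {a} ha => hneg a ha }
  have hR : ∀ x : F, x ∈ R := by
    letI : Field R := Fintype.fieldOfDomain R
    by_contra hne
    push Not at hne
    obtain ⟨y, hy⟩ := hne
    have hpow := Module.card_eq_pow_finrank (K := R) (V := F)
    have hlt : Fintype.card R < Fintype.card F :=
      Fintype.card_lt_of_injective_of_notMem _ Subtype.val_injective (b := y)
        (by rintro ⟨⟨z, hz⟩, rfl⟩; exact hy hz)
    have hr1 : 2 ≤ Fintype.card R := Fintype.one_lt_card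
    have hfr : 2 ≤ Module.finrank R F := by
      by_contra h
      interval_cases hk : Module.finrank R F
      · simp at hpow
        have := Fintype.one_lt_card (α := F)
        omega
      · simp at hpow; omega
    have hsq : Fintype.card R * Fintype.card R ≤ Fintype.card F := by
      rw [hpow, ← pow_two]
      exact Nat.pow_le_pow_right (by omega) hfr
    -- at most three units have a given cube
    have hcube : Fintype.card F - 1 ≤ 3 * (Fintype.card R - 1) := by
      let S : Finset F := (Finset.univ : Finset F).filter (fun x => x ≠ 0)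
      let T : Finset F := (Finset.univ : Finset F).filter (fun x => x ∈ R ∧ x ≠ 0)
      have hS : S.card = Fintype.card F - 1 := by
        simp [S, Finset.filter_ne', Finset.card_erase_of_mem]
      have hT : T.card = Fintype.card R - 1 := by
        have : ((Finset.univ : Finset F).filter (fun x => x ∈ R)).card = Fintype.card R :=
          (Fintype.card_subtype _).symm
        rw [← this, show T = ((Finset.univ : Finset F).filter (fun x => x ∈ R)).erase 0 by
          ext x; simp [T, and_comm]]
        rw [Finset.card_erase_of_mem (by simp [R.zero_mem])]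
      rw [← hS, ← hT]
      refine Finset.card_le_mul_card_image_of_maps_to (f := fun x => x ^ 3) ?_ 3 ?_
      · intro x hx
        simp only [S, Finset.mem_filter, Finset.mem_univ, true_and] at hx
        simp only [T, Finset.mem_filter, Finset.mem_univ, true_and]
        exact ⟨AddSubmonoid.subset_closure ⟨Units.mk0 x hx, by simp⟩, pow_ne_zero 3 hx⟩
      · intro b _
        refine (Finset.card_le_card (t := (Polynomial.nthRoots 3 b).toFinset) ?_).trans
          ((Multiset.toFinset_card_le _).trans (Polynomial.card_nthRoots 3 b))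
        intro x hx
        simp only [Finset.mem_filter] at hx
        rw [Multiset.mem_toFinset, Polynomial.mem_nthRoots (by norm_num)]
        exact hx.2
    have hr2 : Fintype.card R ≤ 2 := by
      by_contra h
      have : 3 * Fintype.card R ≤ Fintype.card R * Fintype.card R :=
        Nat.mul_le_mul_right _ (by omega)
      omega
    have hFc : Fintype.card F ≤ 4 := by omega
    have hR2 : Fintype.card R = 2 := by omega
    have h4' : 4 ≤ Fintype.card F := by rw [hR2] at hsq; omega
    omega
  intro P h0 hadd hbase a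
  have ha : a ∈ AddSubmonoid.closure (cubes F) := hR a
  induction ha using AddSubmonoid.closure_induction with
  | mem x hx => exact hbase x hx
  | zero => exact h0
  | add x y _ _ hx hy => exact hadd x y hx hy

end CfsgLib.SL3Pres
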