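import Mathlib
import Cfsg.Agent.Lib.SL3Pres.Bilinear

/-!
Deriving the commutator formulas of SL3 from the action of two commuting torus elements.
-/

set_option autoImplicit false

namespace CfsgLib.SL3Pres

open Multiplicative (ofAdd)

variable {F : Type*} [Field F] {G : Type*} [Group G]

/-- `g` acts on the image of `X` by multiplication with `α`. -/
def Acts (X : Multiplicative F →* G) (g : G) (α : Fˣ) : Prop :=
  ∀ a, g * X (ofAdd a) * g⁻¹ = X (ofAdd ((α : F) * a))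

section
variable {X : Multiplicative F →* G} {g g' : G} {α α' : Fˣ}

theorem Acts.mul (h : Acts X g α) (h' : Acts X g' α') : Acts X (g * g') (α * α') := fun a => by
  rw [Units.val_mul, mul_assoc (α : F), ← h, ← h']; group

theorem Acts.inv (h : Acts X g α) : Acts X g⁻¹ α⁻¹ := fun a => by
  have := h ((α⁻¹ : Fˣ) * a)
  rw [← mul_assoc, Units.mul_inv, one_mul] at this
  rw [← this]; group

theorem Acts.one : Acts X (1 : G) 1 := fun a => by simp

theorem Acts.pow (h : Acts X g α) (n : ℕ) : Acts X (g ^ n) (α ^ n) := by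
  induction n with
  | zero => rw [pow_zero, pow_zero]; exact Acts.one
  | succ n ih => rw [pow_succ, pow_succ]; exact ih.mul h

theorem Acts.congr (h : Acts X g α) (e : α = α') : Acts X g α' := e ▸ h

theorem Acts.conj (h : Acts X g α) (k : G) {Y : Multiplicative F →* G}
    (hY : ∀ a, Y (ofAdd a) = k * X (ofAdd a) * k⁻¹) : Acts Y (k * g * k⁻¹) α := fun a => by
  rw [hY, hY, ← h]; group

end

/-- The torus data without the centraliser of the third root. -/
structure TD0 (t : Fˣ) (X : Multiplicative F →* G) (h c : G) : Prop where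
  gen : ∀ x : Fˣ, ∃ k : ℕ, t ^ k = x
  c3 : c ^ 3 = 1
  comm : Commute h (c * h * c⁻¹)
  prod : h * (c * h * c⁻¹) * (c⁻¹ * h * c) = 1
  onX : Acts X h t
  hcomm : Commute (h * h * (c * h * c⁻¹)) (X (ofAdd 1))

/-- The torus data. -/
structure TD (t : Fˣ) (X : Multiplicative F →* G) (h c : G) : Prop extends TD0 t X h c where
  fix13 : Commute (h * (c * h * c⁻¹) * (c * h * c⁻¹))
    (cm (X (ofAdd 1)) (c * X (ofAdd 1) * c⁻¹))

namespace TD

variable {t : Fˣ} {X : Multiplicative F →* G} {h c : G}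

/-- The conjugate root homomorphism. -/
def conjX (c : G) (X : Multiplicative F →* G) : Multiplicative F →* G :=
  (MulAut.conj c).toMonoidHom.comp X

theorem conjX_apply (c : G) (X : Multiplicative F →* G) (a : F) :
    conjX c X (ofAdd a) = c * X (ofAdd a) * c⁻¹ := rfl

/-- The candidate commutator value. -/
def Zf (c : G) (X : Multiplicative F →* G) (γ : F) : G :=
  cm (X (ofAdd (γ ^ 2))) (conjX c X (ofAdd γ⁻¹))

end TD

namespace TD0

open TD (conjX conjX_apply)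

variable {t : Fˣ} {X : Multiplicative F →* G} {h c : G} (D : TD0 t X h c)
include D

theorem cinv : c⁻¹ = c * c := by
  refine inv_eq_of_mul_eq_one_right ?_
  rw [← mul_assoc, ← D.c3, pow_three']

theorem csq_inv : (c * c)⁻¹ = c := by rw [← D.cinv, inv_inv]

theorem onX' : Acts X (c * h * c⁻¹) (t⁻¹ ^ 2) := by
  intro a
  obtain rfl | ha := eq_or_ne a 0
  · simp
  obtain ⟨k, hk⟩ := D.gen (Units.mk0 a ha)
  have e : a = ((t ^ k : Fˣ) : F) * 1 := by rw [hk, Units.val_mk0, mul_one]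
  have h1 : h * h * (c * h * c⁻¹) * X (ofAdd a) * (h * h * (c * h * c⁻¹))⁻¹ = X (ofAdd a) := by
    rw [e, ← D.onX.pow k, mul_inv_eq_iff_eq_mul]
    have hc1 : Commute (h * h * (c * h * c⁻¹)) (h ^ k) :=
      (((Commute.refl h).mul_left (Commute.refl h)).mul_left D.comm.symm).pow_right k
    exact ((hc1.mul_right D.hcomm).mul_right hc1.inv_right).eq
  have h2 := (D.onX.mul D.onX).inv a
  calc c * h * c⁻¹ * X (ofAdd a) * (c * h * c⁻¹)⁻¹
      = (h * h)⁻¹ * (h * h * (c * h * c⁻¹) * X (ofAdd a) * (h * h * (c * h * c⁻¹))⁻¹)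
          * (h * h) := by group
    _ = (h * h)⁻¹ * X (ofAdd a) * ((h * h)⁻¹)⁻¹ := by rw [h1, inv_inv]
    _ = _ := by rw [h2]; simp [pow_two]

theorem h''_eq : c⁻¹ * h * c = (h * (c * h * c⁻¹))⁻¹ := eq_inv_of_mul_eq_one_right D.prod

theorem onX'' : Acts X (c⁻¹ * h * c) t := by
  rw [D.h''_eq]
  exact (D.onX.mul D.onX').inv.congr (by
    rw [mul_inv, ← inv_pow, inv_inv, pow_two, ← mul_assoc, inv_mul_cancel, one_mul])

theorem onV : Acts (conjX c X) h t := by
  have := D.onX''.conj c (conjX_apply c X)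
  rwa [show c * (c⁻¹ * h * c) * c⁻¹ = h by group] at this

theorem onV' : Acts (conjX c X) (c * h * c⁻¹) t := D.onX.conj c (conjX_apply c X)

/-- When the cube of the parameter is one the third root is automatically fixed. -/
theorem toTD_of_cube (h3 : t ^ 3 = 1) : TD t X h c := by
  refine { toTD0 := D, fix13 := ?_ }
  set g := h * (c * h * c⁻¹) * (c * h * c⁻¹) with hg
  have e1 : (t⁻¹ : Fˣ) ^ 2 = t := by
    rw [inv_pow]
    exact inv_eq_of_mul_eq_one_right (by rw [← pow_succ, h3])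
  have hX : Acts X g 1 :=
    ((D.onX.mul D.onX').mul D.onX').congr (by rw [e1, ← h3, pow_three'])
  have hV : Acts (conjX c X) g 1 :=
    ((D.onV.mul D.onV').mul D.onV').congr (by rw [← h3, pow_three'])
  rw [← conjX_apply]
  have := cm_conj g (X (ofAdd 1)) (conjX c X (ofAdd 1))
  rw [hX, hV, Units.val_one, one_mul] at this
  exact mul_inv_eq_iff_eq_mul.1 this

end TD0

namespace TD

variable {t : Fˣ} {X : Multiplicative F →* G} {h c : G} (D : TD t X h c)
include D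

/-- Torus elements. -/
theorem torus (i j : ℕ) :
    Acts X (h ^ i * (c * h * c⁻¹) ^ j) (t ^ i * t⁻¹ ^ (2 * j)) ∧
      Acts (conjX c X) (h ^ i * (c * h * c⁻¹) ^ j) (t ^ i * t ^ j) :=
  ⟨((D.onX.pow i).mul (D.onX'.pow j)).congr (by rw [← pow_mul]),
    (D.onV.pow i).mul (D.onV'.pow j)⟩

theorem torus_cm (i j : ℕ) :
    cm (X (ofAdd ((t ^ i * t⁻¹ ^ (2 * j) : Fˣ) : F)))
        (conjX c X (ofAdd ((t ^ i * t ^ j : Fˣ) : F)))
      = Zf c X ((t ^ i * t⁻¹ ^ (2 * j) : Fˣ) * (t ^ i * t ^ j : Fˣ) : F) := by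
  set h' := c * h * c⁻¹ with hh'
  set R := (h' ^ (2 * i))⁻¹ * h' ^ j with hR
  set P := (h * h' * h') ^ i with hP
  have hc : Commute h h' := D.comm
  have e : h ^ i * h' ^ j = R * P := by
    have h1 : Commute P R := by
      refine Commute.pow_left ?_ i
      have hb : Commute (h * h' * h') h' :=
        (hc.mul_left (Commute.refl h')).mul_left (Commute.refl h')
      exact ((hb.pow_right _).inv_right).mul_right (hb.pow_right _)
    rw [← h1.eq, hP, hR, mul_assoc h, (hc.mul_right hc).mul_pow, ← pow_two h', ← pow_mul,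
      mul_assoc, mul_inv_cancel_left]
  have hPz : Commute P (cm (X (ofAdd 1)) (conjX c X (ofAdd 1))) := D.fix13.pow_left i
  have hRX := (D.onX'.pow (2 * i)).inv.mul (D.onX'.pow j)
  have hRV := (D.onV'.pow (2 * i)).inv.mul (D.onV'.pow j)
  obtain ⟨hTX, hTV⟩ := D.torus i j
  have hz1 := cm_conj (h ^ i * h' ^ j) (X (ofAdd 1)) (conjX c X (ofAdd 1))
  rw [hTX, hTV, mul_one, mul_one] at hz1
  rw [← hz1, e, mul_inv_rev]
  calc R * P * cm (X (ofAdd 1)) (conjX c X (ofAdd 1)) * (P⁻¹ * R⁻¹)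
      = R * (P * cm (X (ofAdd 1)) (conjX c X (ofAdd 1)) * P⁻¹) * R⁻¹ := by group
    _ = R * cm (X (ofAdd 1)) (conjX c X (ofAdd 1)) * R⁻¹ := by
        rw [hPz.eq, mul_inv_cancel_right]
    _ = _ := by
        have eA : ((t⁻¹ ^ 2) ^ (2 * i))⁻¹ * (t⁻¹ ^ 2) ^ j
            = (t ^ i * t⁻¹ ^ (2 * j) * (t ^ i * t ^ j)) ^ 2 := by
          simp only [← zpow_natCast, inv_zpow', ← _root_.zpow_neg, ← zpow_mul, ← zpow_add]
          congr 1; push_cast; ring
        have eB : (t ^ (2 * i))⁻¹ * t ^ j = (t ^ i * t⁻¹ ^ (2 * j) * (t ^ i * t ^ j))⁻¹ := by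
          simp only [← zpow_natCast, inv_zpow', ← _root_.zpow_neg, ← zpow_mul, ← zpow_add]
          congr 1; push_cast; ring
        rw [cm_conj, hR, hRX, hRV, mul_one, mul_one, Zf, eA, eB, Units.val_pow_eq_pow_val,
          Units.val_inv_eq_inv_val, Units.val_mul]

/-- A torus element with prescribed multipliers whose ratio is a cube. -/
theorem exists_torus {a b e : Fˣ} (hab : a = b * e ^ 3) :
    ∃ i j : ℕ, t ^ i * t⁻¹ ^ (2 * j) = a ∧ t ^ i * t ^ j = b := by
  obtain ⟨j, hj⟩ := D.gen e⁻¹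
  obtain ⟨i, hi⟩ := D.gen (b * e)
  refine ⟨i, j, ?_, ?_⟩
  · rw [inv_pow, mul_comm 2 j, pow_mul, hi, hj, hab, ← inv_pow, inv_inv]
    simp [pow_succ, mul_assoc]
  · rw [hi, hj, mul_inv_cancel_right]

theorem cm_ratio {a b : F} (ha : a ≠ 0) (hb : b ≠ 0) (h3 : a / b ∈ cubes F) :
    cm (X (ofAdd a)) (conjX c X (ofAdd b)) = Zf c X (a * b) := by
  obtain ⟨e, he⟩ := h3
  obtain ⟨i, j, hi, hj⟩ := D.exists_torus (a := Units.mk0 a ha) (b := Units.mk0 b hb) (e := e)
    (Units.ext (by simp [← he, mul_div_cancel₀ a hb]))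
  have := D.torus_cm i j
  rwa [hi, hj] at this

/-- Transport of a known commutator along the torus. -/
theorem cm_seed {r s a b : F} (hr : r ≠ 0) (hs : s ≠ 0) (ha : a ≠ 0) (hb : b ≠ 0)
    (hseed : cm (X (ofAdd r)) (conjX c X (ofAdd s)) = Zf c X (r * s))
    (h3 : (a / r) / (b / s) ∈ cubes F) :
    cm (X (ofAdd a)) (conjX c X (ofAdd b)) = Zf c X (a * b) := by
  obtain ⟨e, he⟩ := h3
  obtain ⟨i, j, hi, hj⟩ := D.exists_torus (a := Units.mk0 (a / r) (div_ne_zero ha hr))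
    (b := Units.mk0 (b / s) (div_ne_zero hb hs)) (e := e)
    (Units.ext (by simp [← he, mul_div_cancel₀ (a / r) (div_ne_zero hb hs)]))
  obtain ⟨hTX, hTV⟩ := D.torus i j
  have h1 := cm_conj (h ^ i * (c * h * c⁻¹) ^ j) (X (ofAdd r)) (conjX c X (ofAdd s))
  rw [hTX, hTV, hi, hj, Units.val_mk0, Units.val_mk0, div_mul_cancel₀ a hr, div_mul_cancel₀ b hs,
    hseed, Zf, cm_conj, hTX, hTV, hi, hj] at h1
  simp only [Units.val_mk0] at h1
  rw [← h1, D.cm_ratio (mul_ne_zero (div_ne_zero ha hr) (pow_ne_zero 2 (mul_ne_zero hr hs))) (mul_ne_zero (div_ne_zero hb hs) (inv_ne_zero (mul_ne_zero hr hs))) ?_]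
  · congr 1
    field_simp
  · refine ⟨e * Units.mk0 (r * s) (mul_ne_zero hr hs), ?_⟩
    simp only [Units.val_mk0, Units.val_mul, mul_pow, ← he]
    field_simp

theorem commute_X_Zf (h0 : Commute (X (ofAdd 1)) (cm (X (ofAdd 1)) (conjX c X (ofAdd 1))))
    {γ : F} (hγ : γ ≠ 0) {x : F} (hx : x / γ ^ 2 ∈ cubes F) :
    Commute (X (ofAdd x)) (Zf c X γ) := by
  obtain ⟨e, he⟩ := hx
  have hx0 : x ≠ 0 := by
    rintro rfl
    rw [zero_div] at he
    exact pow_ne_zero 3 e.ne_zero he.symm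
  obtain ⟨i, j, hi, hj⟩ := D.exists_torus (a := Units.mk0 x hx0)
    (b := Units.mk0 (γ / x) (div_ne_zero hγ hx0)) (e := Units.mk0 γ hγ * e ^ 2)
    (Units.ext (by
      simp only [Units.val_mk0, Units.val_mul, Units.val_pow_eq_pow_val, mul_pow, ← pow_mul]
      rw [show (e : F) ^ (2 * 3) = (x / γ ^ 2) ^ 2 by rw [he, ← pow_mul]]
      field_simp))
  obtain ⟨hTX, hTV⟩ := D.torus i j
  have key := h0.conj (h ^ i * (c * h * c⁻¹) ^ j)
  rw [cm_conj, hTX, hTV, mul_one, mul_one, hi, hj, Units.val_mk0, Units.val_mk0,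
    D.cm_ratio hx0 (div_ne_zero hγ hx0) ⟨Units.mk0 γ hγ * e ^ 2, ?_⟩,
    mul_div_cancel₀ γ hx0] at key
  · exact key
  · simp only [Units.val_mk0, Units.val_mul, Units.val_pow_eq_pow_val, mul_pow, ← pow_mul]
    rw [show (e : F) ^ (2 * 3) = (x / γ ^ 2) ^ 2 by rw [he, ← pow_mul]]
    field_simp

theorem commute_V_Zf
    (h0 : Commute (conjX c X (ofAdd 1)) (cm (X (ofAdd 1)) (conjX c X (ofAdd 1))))
    {γ : F} (hγ : γ ≠ 0) {x : F} (hx : x * γ ∈ cubes F) :
    Commute (conjX c X (ofAdd x)) (Zf c X γ) := by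
  obtain ⟨e, he⟩ := hx
  have hx0 : x ≠ 0 := by
    rintro rfl
    rw [zero_mul] at he
    exact pow_ne_zero 3 e.ne_zero he.symm
  obtain ⟨i, j, hi, hj⟩ := D.exists_torus (a := Units.mk0 (γ / x) (div_ne_zero hγ hx0))
    (b := Units.mk0 x hx0) (e := Units.mk0 γ hγ / e ^ 2)
    (Units.ext (by
      simp only [Units.val_mk0, Units.val_mul, Units.val_div_eq_div_val, Units.val_pow_eq_pow_val,
        div_pow, ← pow_mul]
      rw [show (e : F) ^ (2 * 3) = (x * γ) ^ 2 by rw [he, ← pow_mul]]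
      field_simp))
  obtain ⟨hTX, hTV⟩ := D.torus i j
  have key := h0.conj (h ^ i * (c * h * c⁻¹) ^ j)
  rw [cm_conj, hTX, hTV, mul_one, mul_one, hi, hj, Units.val_mk0, Units.val_mk0,
    D.cm_ratio (div_ne_zero hγ hx0) hx0 ⟨Units.mk0 γ hγ / e ^ 2, ?_⟩,
    div_mul_cancel₀ γ hx0] at key
  · exact key
  · simp only [Units.val_mk0, Units.val_div_eq_div_val, Units.val_pow_eq_pow_val,
      div_pow, ← pow_mul]
    rw [show (e : F) ^ (2 * 3) = (x * γ) ^ 2 by rw [he, ← pow_mul]]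
    field_simp

end TD

end CfsgLib.SL3Pres
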