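import Mathlib
import Cfsg.Agent.Lib.SL3Pres.Torus
import Cfsg.Agent.Lib.SLSteinberg.Basic

/-!
From the torus data and finitely many commutators to the Steinberg relations of SL3.
-/

set_option autoImplicit false

namespace CfsgLib.SL3Pres

open Multiplicative (ofAdd)
open CfsgLib.SLSteinberg (StComm)

variable {F : Type*} [Field F] {G : Type*} [Group G]

theorem cm_commute_of_involution {p q : G} (hp : p * p = 1) (hq : q * q = 1)
    (hz : cm p q * cm p q = 1) : Commute p (cm p q) ∧ Commute q (cm p q) := by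
  have h' : (cm p q)⁻¹ = cm p q := inv_eq_of_mul_eq_one_right hz
  have hp' : p⁻¹ = p := inv_eq_of_mul_eq_one_right hp
  have hq' : q⁻¹ = q := inv_eq_of_mul_eq_one_right hq
  have e1 : p * cm p q * p⁻¹ = (cm p q)⁻¹ := by
    simp only [cm, hp', hq', mul_inv_rev]
    rw [← mul_assoc p (p * q * p), ← mul_assoc p (p * q), ← mul_assoc p p, hp, one_mul]
    simp only [mul_assoc]
  have e2 : q * cm p q * q⁻¹ = (cm p q)⁻¹ := by
    simp only [cm, hp', hq', mul_inv_rev, mul_assoc, hq, mul_one]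
  rw [h'] at e1 e2
  exact ⟨mul_inv_eq_iff_eq_mul.1 e1, mul_inv_eq_iff_eq_mul.1 e2⟩

theorem cm_self_of_commute {p q : G} (hp : p * p = 1) (hq : q * q = 1)
    (hc : Commute q (cm p q)) : cm p q * cm p q = 1 := by
  have hp' : p⁻¹ = p := inv_eq_of_mul_eq_one_right hp
  have hq' : q⁻¹ = q := inv_eq_of_mul_eq_one_right hq
  have e2 : q * cm p q * q⁻¹ = (cm p q)⁻¹ := by
    simp only [cm, hp', hq', mul_inv_rev, mul_assoc, hq, mul_one]
  rw [hc.eq, mul_inv_cancel_right] at e2
  exact eq_inv_iff_mul_eq_one.1 e2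

/-- The bilinear commutator `Y`. -/
def IsY (c : G) (X Y : Multiplicative F →* G) : Prop :=
  (∀ a b, cm (X (ofAdd a)) (TD.conjX c X (ofAdd b)) = Y (ofAdd (a * b))) ∧
    (∀ a b, Commute (X (ofAdd a)) (Y (ofAdd b))) ∧
    (∀ a b, Commute (TD.conjX c X (ofAdd a)) (Y (ofAdd b)))

namespace TD

variable {t : Fˣ} {X : Multiplicative F →* G} {h c : G}

theorem exists_Y [Fintype F] (D : TD t X h c) (h4 : Fintype.card F ≠ 4)
    (hu : Commute (X (ofAdd 1)) (cm (X (ofAdd 1)) (conjX c X (ofAdd 1))))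
    (hv : Commute (conjX c X (ofAdd 1)) (cm (X (ofAdd 1)) (conjX c X (ofAdd 1)))) :
    ∃ Y, IsY c X Y := by
  have hC := spans_cubes h4
  refine exists_bilinear X (conjX c X) hC ?_ ?_ ?_ (Zf c X)
    (fun a b ha hb h3 => D.cm_ratio ha hb h3) ?_ ?_
  · rintro _ ⟨e, rfl⟩; exact pow_ne_zero 3 e.ne_zero
  · rintro _ ⟨e, rfl⟩ _ ⟨d, rfl⟩; exact ⟨e * d, by simp [mul_pow]⟩
  · rintro _ ⟨e, rfl⟩; exact ⟨e⁻¹, by simp⟩
  · intro γ hγ
    refine hC.coset (pow_ne_zero 2 hγ) (fun a => Commute (X (ofAdd a)) (Zf c X γ)) (by simp) ?_ ?_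
    · intro a b ha hb
      show Commute _ _
      rw [ofAdd_add, map_mul]
      exact Commute.mul_left ha hb
    · intro e he
      exact D.commute_X_Zf hu hγ (by rwa [mul_div_cancel_left₀ e (pow_ne_zero 2 hγ)])
  · intro γ hγ
    refine hC.coset (inv_ne_zero hγ) (fun a => Commute (conjX c X (ofAdd a)) (Zf c X γ))
      (by simp) ?_ ?_
    · intro a b ha hb
      show Commute _ _
      rw [ofAdd_add, map_mul]
      exact Commute.mul_left ha hb
    · intro e he
      exact D.commute_V_Zf hv hγ (by rwa [mul_comm γ⁻¹, mul_assoc, inv_mul_cancel₀ hγ, mul_one])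

theorem exists_Y_four (D : TD t X h c) (h2 : (2 : F) = 0)
    (h3 : ∀ x : F, x ≠ 0 → x = 1 ∨ x = t ∨ x = (t : F)⁻¹)
    (hv : Commute (conjX c X (ofAdd 1)) (cm (X (ofAdd 1)) (conjX c X (ofAdd 1))))
    (hs1 : cm (X (ofAdd (t : F))) (conjX c X (ofAdd 1)) = Zf c X t)
    (hs2 : cm (X (ofAdd 1)) (conjX c X (ofAdd (t : F))) = Zf c X t) :
    ∃ Y, IsY c X Y := by
  have hinv : ∀ (T : Multiplicative F →* G) (a : F), T (ofAdd a) * T (ofAdd a) = 1 := by
    intro T a
    rw [← map_mul, ← ofAdd_add, ← two_mul, h2, zero_mul, ofAdd_zero, map_one]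
  have hsq : ∀ γ, γ ≠ 0 → Zf c X γ * Zf c X γ = 1 := by
    intro γ hγ
    obtain ⟨i, j, hi, hj⟩ := D.exists_torus (a := Units.mk0 γ hγ ^ 2)
      (b := (Units.mk0 γ hγ)⁻¹) (e := Units.mk0 γ hγ) (by group)
    obtain ⟨hTX, hTV⟩ := D.torus i j
    have e := cm_conj (h ^ i * (c * h * c⁻¹) ^ j) (X (ofAdd 1)) (conjX c X (ofAdd 1))
    rw [hTX, hTV, hi, hj, mul_one, mul_one, Units.val_pow_eq_pow_val, Units.val_inv_eq_inv_val,
      Units.val_mk0] at e
    rw [Zf, ← e, conj_mul, cm_self_of_commute (hinv X 1) (hinv (conjX c X) 1) hv, mul_one,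
      mul_inv_cancel]
  have one_cube : (1 : F) ∈ cubes F := ⟨1, by simp⟩
  have hall : ∀ a b, a ≠ 0 → b ≠ 0 → cm (X (ofAdd a)) (conjX c X (ofAdd b)) = Zf c X (a * b) := by
    intro a b ha hb
    rcases h3 (a / b) (div_ne_zero ha hb) with e | e | e
    · exact D.cm_ratio ha hb (e ▸ one_cube)
    · refine D.cm_seed t.ne_zero one_ne_zero ha hb (by rwa [mul_one]) ?_
      rw [div_one, div_right_comm, e, div_self t.ne_zero]
      exact one_cube
    · refine D.cm_seed one_ne_zero t.ne_zero ha hb (by rwa [one_mul]) ?_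
      rw [div_one, div_div_eq_mul_div, mul_div_right_comm, e, inv_mul_cancel₀ t.ne_zero]
      exact one_cube
  refine exists_bilinear X (conjX c X) spans_nonzero (fun r hr => hr)
    (fun r hr s hs => mul_ne_zero hr hs) (fun r hr => inv_ne_zero hr) (Zf c X)
    (fun a b ha hb _ => hall a b ha hb) ?_ ?_
  · intro γ hγ a
    rcases eq_or_ne a 0 with rfl | ha
    · simp
    have e := hall a (γ / a) ha (div_ne_zero hγ ha)
    rw [mul_div_cancel₀ γ ha] at e
    rw [← e]
    exact (cm_commute_of_involution (hinv _ _) (hinv _ _) (by rw [e]; exact hsq γ hγ)).1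
  · intro γ hγ b
    rcases eq_or_ne b 0 with rfl | hb
    · simp
    have e := hall (γ / b) b (div_ne_zero hγ hb) hb
    rw [div_mul_cancel₀ γ hb] at e
    rw [← e]
    exact (cm_commute_of_involution (hinv _ _) (hinv _ _) (by rw [e]; exact hsq γ hγ)).2

variable {Y : Multiplicative F →* G}

theorem onY {g : G} {α β : Fˣ} (hY : IsY c X Y) (hα : Acts X g α) (hβ : Acts (conjX c X) g β) :
    Acts Y g (α * β) := by
  intro a
  have e := hY.1 a 1
  rw [mul_one] at e
  rw [← e, cm_conj, hα, hβ, hY.1, Units.val_mul]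
  congr 2
  ring

theorem torusYW (D : TD t X h c) (hY : IsY c X Y) (i j : ℕ) :
    Acts Y (h ^ i * (c * h * c⁻¹) ^ j) (t ^ (2 * i) * t⁻¹ ^ j) ∧
      Acts (conjX (c * c) Y) (h ^ i * (c * h * c⁻¹) ^ j) (t⁻¹ ^ i * t⁻¹ ^ j) := by
  have y1 : Acts Y h (t * t) := onY hY D.onX D.onV
  have y2 : Acts Y (c * h * c⁻¹) (t⁻¹) :=
    (onY hY D.onX' D.onV').congr (by rw [pow_two, mul_assoc, inv_mul_cancel, mul_one])
  have v3 : Acts (conjX c X) (c⁻¹ * h * c) (t * t)⁻¹ := by
    rw [D.h''_eq]; exact (D.onV.mul D.onV').inv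
  have y3 : Acts Y (c⁻¹ * h * c) (t⁻¹) :=
    (onY hY D.onX'' v3).congr (by rw [mul_inv, mul_inv_cancel_left])
  have w1 : Acts (conjX (c * c) Y) h t⁻¹ := by
    have := y2.conj (c * c) (conjX_apply (c * c) Y)
    rwa [show c * c * (c * h * c⁻¹) * (c * c)⁻¹ = c * c * c * h * (c * c * c)⁻¹ by simp only [mul_assoc, mul_inv_rev],
      (pow_three' c).symm.trans D.c3, one_mul,
      inv_one, mul_one] at this
  have w2 : Acts (conjX (c * c) Y) (c * h * c⁻¹) t⁻¹ := by
    have := y3.conj (c * c) (conjX_apply (c * c) Y)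
    rwa [show c * c * (c⁻¹ * h * c) * (c * c)⁻¹ = c * h * c⁻¹ by group] at this
  exact ⟨((y1.pow i).mul (y2.pow j)).congr (by rw [← pow_two, ← pow_mul]),
    (w1.pow i).mul (w2.pow j)⟩

theorem second_seed (D : TD t X h c) (hY : IsY c X Y) {r : F} (hr : r ≠ 0)
    (hseed : cm (Y (ofAdd r)) (conjX (c * c) Y (ofAdd 1)) = X (ofAdd r))
    {a b : F} (ha : a ≠ 0) (hb : b ≠ 0) (h3 : a / b / r ∈ cubes F) :
    cm (Y (ofAdd a)) (conjX (c * c) Y (ofAdd b)) = X (ofAdd (a * b)) := by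
  obtain ⟨e, he⟩ := h3
  obtain ⟨i, hi⟩ := D.gen e
  obtain ⟨j, hj⟩ := D.gen (Units.mk0 b hb * e)⁻¹
  obtain ⟨hTY, hTW⟩ := D.torusYW hY i j
  have key := cm_conj (h ^ i * (c * h * c⁻¹) ^ j) (Y (ofAdd r)) (conjX (c * c) Y (ofAdd 1))
  rw [hseed, (D.torus i j).1, hTY, hTW] at key
  have ei : ((t ^ (2 * i) * t⁻¹ ^ j : Fˣ) : F) * r = a := by
    rw [mul_comm 2 i, pow_mul, inv_pow, hi, hj, inv_inv]
    simp only [Units.val_mul, Units.val_pow_eq_pow_val, Units.val_mk0]
    rw [show (e : F) ^ 2 * (b * e) * r = b * r * (e : F) ^ 3 by ring, ← he]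
    field_simp
  have ej : ((t⁻¹ ^ i * t⁻¹ ^ j : Fˣ) : F) * 1 = b := by
    rw [inv_pow, inv_pow, hi, hj, inv_inv, mul_one]
    simp only [Units.val_mul, Units.val_mk0, Units.val_inv_eq_inv_val]
    field_simp
  have ek : ((t ^ i * t⁻¹ ^ (2 * j) : Fˣ) : F) * r = a * b := by
    rw [mul_comm 2 j, pow_mul, inv_pow, hi, hj, inv_inv]
    simp only [Units.val_mul, Units.val_pow_eq_pow_val, Units.val_mk0]
    rw [show (e : F) * (b * e) ^ 2 * r = b ^ 2 * r * (e : F) ^ 3 by ring, ← he]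
    field_simp
  rw [ei, ej, ek] at key
  exact key.symm

end TD

/-- The candidate root elements. -/
def xfam (c : G) (X Y : Multiplicative F →* G) (i j : Fin 3) (a : F) : G :=
  c ^ (i : ℕ) * (if j - i = 1 then X (ofAdd a) else Y (ofAdd a)) * (c ^ (i : ℕ))⁻¹

theorem xfam_shift {c : G} (hc : c ^ 3 = 1) (X Y : Multiplicative F →* G) (i j : Fin 3) (a : F) :
    c * xfam c X Y i j a * c⁻¹ = xfam c X Y (i + 1) (j + 1) a := by
  have e : c ^ ((i + 1 : Fin 3) : ℕ) = c * c ^ (i : ℕ) := by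
    rw [← pow_succ', Fin.val_add, ← pow_eq_pow_mod _ hc]
    rfl
  simp only [xfam, e, add_sub_add_right_eq_sub]
  group

theorem stComm_xfam {t : Fˣ} {X Y : Multiplicative F →* G} {h c : G} (D : TD t X h c)
    (hY : IsY c X Y)
    (h2nd : ∀ a b, cm (Y (ofAdd a)) (TD.conjX (c * c) Y (ofAdd b)) = X (ofAdd (a * b))) :
    StComm (xfam c X Y) := by
  have x01 : ∀ a, xfam c X Y 0 1 a = X (ofAdd a) := fun a => by simp [xfam]
  have x02 : ∀ a, xfam c X Y 0 2 a = Y (ofAdd a) := fun a => by simp [xfam]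
  have x12 : ∀ a, xfam c X Y 1 2 a = TD.conjX c X (ofAdd a) := fun a => by
    simp [xfam, TD.conjX_apply]
  have x21 : ∀ a, xfam c X Y 2 1 a = TD.conjX (c * c) Y (ofAdd a) := fun a => by
    simp [xfam, TD.conjX_apply, pow_two]
  have hsh : ∀ (m i j : Fin 3) (a : F), c ^ (m : ℕ) * xfam c X Y i j a * (c ^ (m : ℕ))⁻¹
      = xfam c X Y (i + m) (j + m) a := by
    intro m i j a
    fin_cases m
    · simp
    · simpa using xfam_shift D.c3 X Y i j a
    · have e := xfam_shift D.c3 X Y (i + 1) (j + 1) a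
      rw [← xfam_shift D.c3 X Y i j a, add_assoc, add_assoc] at e
      calc c ^ 2 * xfam c X Y i j a * (c ^ 2)⁻¹
          = c * (c * xfam c X Y i j a * c⁻¹) * c⁻¹ := by rw [pow_two]; group
        _ = _ := e
  have hXW : ∀ a b, Commute (X (ofAdd a)) (TD.conjX (c * c) Y (ofAdd b)) := by
    intro a b
    have := (hY.2.2 a b).conj (c * c)
    rw [TD.conjX_apply, show c * c * (c * X (ofAdd a) * c⁻¹) * (c * c)⁻¹
      = c * c * c * X (ofAdd a) * (c * c * c)⁻¹ by simp only [mul_assoc, mul_inv_rev],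
      (pow_three' c).symm.trans D.c3, one_mul, inv_one, mul_one] at this
    exact this
  have base0 : ∀ j k l : Fin 3, 0 ≠ j → k ≠ l → 0 ≠ l → j ≠ k → ∀ t u,
      Commute (xfam c X Y 0 j t) (xfam c X Y k l u) := by
    intro j k l hj hkl hl hjk a b
    fin_cases j <;> fin_cases k <;> fin_cases l <;>
      first
        | exact absurd rfl hj
        | exact absurd rfl hkl
        | exact absurd rfl hl
        | exact absurd rfl hjk
        | (show Commute (xfam c X Y 0 1 a) (xfam c X Y 0 1 b)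
           rw [x01, x01]; exact (Commute.all _ _).map X)
        | (show Commute (xfam c X Y 0 1 a) (xfam c X Y 0 2 b)
           rw [x01, x02]; exact hY.2.1 a b)
        | (show Commute (xfam c X Y 0 1 a) (xfam c X Y 2 1 b)
           rw [x01, x21]; exact hXW a b)
        | (show Commute (xfam c X Y 0 2 a) (xfam c X Y 0 1 b)
           rw [x02, x01]; exact (hY.2.1 b a).symm)
        | (show Commute (xfam c X Y 0 2 a) (xfam c X Y 0 2 b)
           rw [x02, x02]; exact (Commute.all _ _).map Y)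
        | (show Commute (xfam c X Y 0 2 a) (xfam c X Y 1 2 b)
           rw [x02, x12]; exact (hY.2.2 b a).symm)
  have base1 : ∀ j k : Fin 3, 0 ≠ j → j ≠ k → 0 ≠ k → ∀ t u,
      xfam c X Y 0 j t * xfam c X Y j k u * (xfam c X Y 0 j t)⁻¹
        = xfam c X Y 0 k (t * u) * xfam c X Y j k u := by
    intro j k hj hjk hk a b
    rw [← cm_eq_iff]
    fin_cases j <;> fin_cases k <;>
      first
        | exact absurd rfl hj
        | exact absurd rfl hjk
        | exact absurd rfl hk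
        | (show cm (xfam c X Y 0 1 a) (xfam c X Y 1 2 b) = xfam c X Y 0 2 (a * b)
           rw [x01, x12, x02]; exact hY.1 a b)
        | (show cm (xfam c X Y 0 2 a) (xfam c X Y 2 1 b) = xfam c X Y 0 1 (a * b)
           rw [x02, x21, x01]; exact h2nd a b)
  refine { add := ?_, comm0 := ?_, comm1 := ?_ }
  · intro i j a b _
    simp only [xfam]
    split <;> rw [ofAdd_add, map_mul] <;> group
  · intro i j k l hij hkl hil hjk a b
    have := (base0 (j - i) (k - i) (l - i) (sub_ne_zero.2 hij.symm).symm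
      (fun e => hkl (sub_left_injective e)) (sub_ne_zero.2 hil.symm).symm
      (fun e => hjk (sub_left_injective e)) a b).conj (c ^ (i : ℕ))
    simpa only [hsh, zero_add, sub_add_cancel] using this
  · intro i j k hij hjk hik a b
    have := congrArg (MulAut.conj (c ^ (i : ℕ)))
      (base1 (j - i) (k - i) (sub_ne_zero.2 hij.symm).symm (fun e => hjk (sub_left_injective e))
        (sub_ne_zero.2 hik.symm).symm a b)
    rw [map_mul, map_mul, map_mul, map_inv] at this
    simpa only [MulAut.conj_apply, hsh, zero_add, sub_add_cancel] using this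

end CfsgLib.SL3Pres
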