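import Mathlib
import Cfsg.Agent.Lib.SL3Pres.Forcing

/-!
The model elements in SL3.
-/

set_option autoImplicit false

namespace CfsgLib.SL3Pres

open Multiplicative (ofAdd)
open Matrix

variable (F : Type*) [Field F]

/-- A root homomorphism of SL3. -/
def mRoot (i j : Fin 3) (hij : i ≠ j) : Multiplicative F →* Matrix.SpecialLinearGroup (Fin 3) F where
  toFun a := Matrix.SpecialLinearGroup.transvection hij a.toAdd
  map_one' := Subtype.ext (by
    show Matrix.transvection i j (0 : F) = 1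
    exact Matrix.transvection_zero i j)
  map_mul' a b := Subtype.ext (by
    show Matrix.transvection i j (a.toAdd + b.toAdd) = _
    exact (Matrix.transvection_mul_transvection_same i j hij a.toAdd b.toAdd).symm)

theorem mRoot_val (i j : Fin 3) (hij : i ≠ j) (a : F) :
    ((mRoot F i j hij (ofAdd a) : Matrix.SpecialLinearGroup (Fin 3) F) : Matrix (Fin 3) (Fin 3) F)
      = Matrix.transvection i j a := rfl

/-- The root x12. -/
def mX : Multiplicative F →* Matrix.SpecialLinearGroup (Fin 3) F := mRoot F 0 1 (by decide)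

/-- The root x13. -/
def mY : Multiplicative F →* Matrix.SpecialLinearGroup (Fin 3) F := mRoot F 0 2 (by decide)

/-- The three-cycle. -/
def mC : Matrix.SpecialLinearGroup (Fin 3) F :=
  ⟨!![0, 0, 1; 1, 0, 0; 0, 1, 0], by simp [Matrix.det_fin_three]⟩

/-- Diagonal elements. -/
def mDiag (a b : Fˣ) : Matrix.SpecialLinearGroup (Fin 3) F :=
  ⟨!![(a : F), 0, 0; 0, (b : F), 0; 0, 0, ((a * b)⁻¹ : Fˣ)], by
    simp [Matrix.det_fin_three]; field_simp⟩

variable {F}

/-- The torus generator. -/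
def mH (t : Fˣ) : Matrix.SpecialLinearGroup (Fin 3) F := mDiag F t 1

theorem mC_shift (i j : Fin 3) (hij : i ≠ j) (a : F) :
    mC F * mRoot F i j hij (ofAdd a) * (mC F)⁻¹
      = mRoot F (i + 1) (j + 1) (fun e => hij (add_right_cancel e)) (ofAdd a) := by
  rw [mul_inv_eq_iff_eq_mul]
  refine Subtype.ext ?_
  rw [Matrix.SpecialLinearGroup.coe_mul, Matrix.SpecialLinearGroup.coe_mul, mRoot_val, mRoot_val]
  ext r s
  fin_cases i <;> fin_cases j <;> first
    | exact absurd rfl hij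
    | (fin_cases r <;> fin_cases s <;>
        simp [mC, Matrix.transvection, Matrix.mul_apply, Fin.sum_univ_three, Matrix.single_apply])

theorem mC_cube : (mC F : Matrix.SpecialLinearGroup (Fin 3) F) ^ 3 = 1 := by
  refine Subtype.ext ?_
  simp only [pow_three, Matrix.SpecialLinearGroup.coe_mul, Matrix.SpecialLinearGroup.coe_one]
  ext r s
  fin_cases r <;> fin_cases s <;> simp [mC, Matrix.mul_apply, Fin.sum_univ_three]

theorem mDiag_mul (a b a' b' : Fˣ) : mDiag F a b * mDiag F a' b' = mDiag F (a * a') (b * b') := by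
  refine Subtype.ext ?_
  rw [Matrix.SpecialLinearGroup.coe_mul]
  ext r s
  fin_cases r <;> fin_cases s <;>
    simp [mDiag, Matrix.mul_apply, Fin.sum_univ_three] <;> ring

theorem mDiag_one : mDiag F (1 : Fˣ) 1 = 1 := by
  refine Subtype.ext ?_
  ext r s
  fin_cases r <;> fin_cases s <;> simp [mDiag]

theorem mC_diag (a b : Fˣ) : mC F * mDiag F a b * (mC F)⁻¹ = mDiag F (a * b)⁻¹ a := by
  rw [mul_inv_eq_iff_eq_mul]
  refine Subtype.ext ?_
  rw [Matrix.SpecialLinearGroup.coe_mul, Matrix.SpecialLinearGroup.coe_mul]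
  ext r s
  fin_cases r <;> fin_cases s <;>
    simp [mDiag, mC, Matrix.mul_apply, Fin.sum_univ_three] <;> field_simp

theorem mDiag_conj (a b : Fˣ) (v : F) :
    mDiag F a b * mX F (ofAdd v) * (mDiag F a b)⁻¹ = mX F (ofAdd ((a : F) / b * v)) := by
  rw [mul_inv_eq_iff_eq_mul]
  refine Subtype.ext ?_
  rw [Matrix.SpecialLinearGroup.coe_mul, Matrix.SpecialLinearGroup.coe_mul, mX, mRoot_val,
    mRoot_val]
  ext r s
  fin_cases r <;> fin_cases s <;>
    simp [mDiag, Matrix.transvection, Matrix.mul_apply, Fin.sum_univ_three, Matrix.single_apply] <;>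
    field_simp

theorem mTD0 {t : Fˣ} (ht : ∀ x : Fˣ, ∃ k : ℕ, t ^ k = x) :
    TD0 t (mX F) (mH t) (mC F) := by
  have e' : mC F * mH t * (mC F)⁻¹ = mDiag F t⁻¹ t := by rw [mH, mC_diag, mul_one]
  have e'' : (mC F)⁻¹ * mH t * mC F = mDiag F 1 t⁻¹ := by
    have h1 : mH t = mC F * mDiag F 1 t⁻¹ * (mC F)⁻¹ := by
      rw [mC_diag, one_mul, inv_inv, mH]
    rw [h1]; group
  refine ⟨ht, mC_cube, ?_, ?_, fun v => ?_, ?_⟩
  · rw [e', mH, Commute, SemiconjBy, mDiag_mul, mDiag_mul, mul_comm t, mul_comm (1 : Fˣ)]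
  · rw [e', e'', mH, mDiag_mul, mDiag_mul, mul_inv_cancel, one_mul, one_mul, mul_inv_cancel,
      mDiag_one]
  · rw [mH, mDiag_conj, Units.val_one, div_one]
  · rw [e', mH, mDiag_mul, mDiag_mul]
    refine mul_inv_eq_iff_eq_mul.1 ?_
    rw [mDiag_conj]
    simp

theorem conjX_mC : ∀ a : F, TD.conjX (mC F) (mX F) (ofAdd a)
    = mRoot F 1 2 (by decide) (ofAdd a) := fun a => by
  rw [TD.conjX_apply, mX, mC_shift]
  rfl

theorem conjX_mC_sq : ∀ a : F, TD.conjX (mC F * mC F) (mY F) (ofAdd a)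
    = mRoot F 2 1 (by decide) (ofAdd a) := fun a => by
  rw [TD.conjX_apply, mY, show mC F * mC F * mRoot F 0 2 (by decide) (ofAdd a) * (mC F * mC F)⁻¹
      = mC F * (mC F * mRoot F 0 2 (by decide) (ofAdd a) * (mC F)⁻¹) * (mC F)⁻¹ by group,
    mC_shift, mC_shift]
  rfl

theorem mRoot_cm (i j k : Fin 3) (hij : i ≠ j) (hjk : j ≠ k) (hik : i ≠ k) (a b : F) :
    cm (mRoot F i j hij (ofAdd a)) (mRoot F j k hjk (ofAdd b))
      = mRoot F i k hik (ofAdd (a * b)) := by
  rw [cm_eq_iff, mul_inv_eq_iff_eq_mul]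
  refine Subtype.ext ?_
  simp only [Matrix.SpecialLinearGroup.coe_mul, mRoot_val, Matrix.transvection, add_mul, mul_add,
    one_mul, mul_one, Matrix.single_mul_single_same,
    Matrix.single_mul_single_of_ne _ _ _ _ (Ne.symm hjk),
    Matrix.single_mul_single_of_ne _ _ _ _ (Ne.symm hik), zero_mul]
  abel

theorem mRoot_commute (i j k l : Fin 3) (hij : i ≠ j) (hkl : k ≠ l) (hjk : j ≠ k) (hli : l ≠ i)
    (a b : F) : Commute (mRoot F i j hij (ofAdd a)) (mRoot F k l hkl (ofAdd b)) := by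
  refine Subtype.ext ?_
  simp only [Matrix.SpecialLinearGroup.coe_mul, mRoot_val, Matrix.transvection, add_mul, mul_add,
    one_mul, mul_one, Matrix.single_mul_single_of_ne _ _ _ _ hjk,
    Matrix.single_mul_single_of_ne _ _ _ _ hli]
  abel

theorem mIsY : IsY (mC F) (mX F) (mY F) := by
  refine ⟨fun a b => ?_, fun a b => ?_, fun a b => ?_⟩
  · rw [conjX_mC]; exact mRoot_cm 0 1 2 _ _ _ a b
  · exact mRoot_commute 0 1 0 2 _ _ (by decide) (by decide) a b
  · rw [conjX_mC]; exact mRoot_commute 1 2 0 2 _ _ (by decide) (by decide) a b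

theorem mSecond (a b : F) :
    cm (mY F (ofAdd a)) (TD.conjX (mC F * mC F) (mY F) (ofAdd b)) = mX F (ofAdd (a * b)) := by
  rw [conjX_mC_sq]; exact mRoot_cm 0 2 1 _ _ _ a b

theorem mTD {t : Fˣ} (ht : ∀ x : Fˣ, ∃ k : ℕ, t ^ k = x) :
    TD t (mX F) (mH t) (mC F) := by
  refine { toTD0 := mTD0 ht, fix13 := ?_ }
  set g := mH t * (mC F * mH t * (mC F)⁻¹) * (mC F * mH t * (mC F)⁻¹) with hg
  have e : g = mDiag F t⁻¹ (t * t) := by
    rw [hg, mH, mC_diag, mDiag_mul, mDiag_mul, mul_one, mul_inv_cancel, one_mul, one_mul]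
  rw [e, ← TD.conjX_apply, mIsY.1, mY]
  refine Subtype.ext ?_
  simp only [Matrix.SpecialLinearGroup.coe_mul, mRoot_val]
  ext r s
  fin_cases r <;> fin_cases s <;>
    simp [mDiag, Matrix.transvection, Matrix.mul_apply, Fin.sum_univ_three, Matrix.single_apply] <;>
    field_simp

theorem mDiag_eq (t : Fˣ) :
    (mY F (ofAdd (t : F)) * (mC F * mC F * mX F (ofAdd (-(t : F)⁻¹)) * (mC F * mC F)⁻¹)
        * mY F (ofAdd (t : F)))
      * (mY F (ofAdd (-1)) * (mC F * mC F * mX F (ofAdd 1) * (mC F * mC F)⁻¹) * mY F (ofAdd (-1)))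
      = mH t := by
  have hc : ∀ a : F, mC F * mC F * mX F (ofAdd a) * (mC F * mC F)⁻¹
      = mRoot F 2 0 (by decide) (ofAdd a) := by
    intro a
    rw [show mC F * mC F * mX F (ofAdd a) * (mC F * mC F)⁻¹
      = mC F * (mC F * mX F (ofAdd a) * (mC F)⁻¹) * (mC F)⁻¹ by group, mX, mC_shift, mC_shift]
    rfl
  rw [hc, hc]
  refine Subtype.ext ?_
  simp only [Matrix.SpecialLinearGroup.coe_mul, mY, mRoot_val]
  ext r s
  fin_cases r <;> fin_cases s <;>
    simp [mH, mDiag, Matrix.transvection, Matrix.mul_apply, Fin.sum_univ_three,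
      Matrix.single_apply] <;> field_simp <;> ring

theorem mC_eq :
    (mX F (ofAdd (-1 : F)) * (mC F * mY F (ofAdd (1 : F)) * (mC F)⁻¹) * mX F (ofAdd (-1 : F)))
      * (mC F * (mX F (ofAdd (-1 : F)) * (mC F * mY F (ofAdd (1 : F)) * (mC F)⁻¹)
          * mX F (ofAdd (-1 : F))) * (mC F)⁻¹)
      = mC F := by
  rw [← mul_assoc, mul_inv_eq_iff_eq_mul, mY, mC_shift]
  refine Subtype.ext ?_
  simp only [Matrix.SpecialLinearGroup.coe_mul, mX, mRoot_val]
  ext r s
  fin_cases r <;> fin_cases s <;>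
    simp [mC, Matrix.transvection, Matrix.mul_apply, Matrix.vecMul, dotProduct, Fin.sum_univ_three,
      Matrix.single_apply]

theorem xfam_model (i j : Fin 3) (hij : i ≠ j) (a : F) :
    ((xfam (mC F) (mX F) (mY F) i j a : Matrix.SpecialLinearGroup (Fin 3) F) :
      Matrix (Fin 3) (Fin 3) F) = Matrix.transvection i j a := by
  suffices h : xfam (mC F) (mX F) (mY F) i j a = mRoot F i j hij (ofAdd a) by rw [h, mRoot_val]
  have sq : ∀ g : Matrix.SpecialLinearGroup (Fin 3) F, mC F ^ 2 * g * (mC F ^ 2)⁻¹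
      = mC F * (mC F * g * (mC F)⁻¹) * (mC F)⁻¹ := fun g => by rw [pow_two]; group
  fin_cases i <;> fin_cases j <;> first
    | exact absurd rfl hij
    | (simp [xfam, mX, mY]; done)
    | (simp (config := { decide := true }) [xfam, mX, mY, mC_shift]; done)
    | (simp (config := { decide := true }) [xfam, mX, mY, sq, mC_shift]; done)

end CfsgLib.SL3Pres
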