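import Mathlib
import Cfsg.Agent.Lib.SL3Pres.Block
import Cfsg.Agent.Lib.SL3Pres.Model
import Cfsg.Agent.Lib.SLSteinberg.Inject
import Cfsg.Agent.Lib.SL2Pres.Main
import Cfsg.Agent.Lib.Classical.SLBasic

/-!
Presentations of SL3 over a finite field with four generators and fourteen relations.
-/

set_option autoImplicit false

namespace CfsgLib.SL3Pres

open Polynomial
open CfsgLib.SL2Pres (cj polyWord map_cj map_polyWord)
open CfsgLib.SLSteinberg (Ww)
open Multiplicative (ofAdd)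

variable {F : Type*} [Field F] {G : Type*} [Group G]

/-- The Weyl word for 12. -/
def wordW (u c z : G) : G := u⁻¹ * (c * z * c⁻¹) * u⁻¹

/-- The word for the three-cycle. -/
def wordC (u c z : G) : G := wordW u c z * (c * wordW u c z * c⁻¹)

/-- The commutator of two neighbouring roots at parameters `h^k`. -/
def wordY (u h c : G) : G := cm (h * u * h⁻¹) (c * u * c⁻¹)

/-- The word for the torus generator. -/
def wordH (u h c z : G) : G :=
  (wordY u h c * (c * c * (h⁻¹ * u⁻¹ * h) * (c * c)⁻¹) * wordY u h c)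
    * (z⁻¹ * (c * c * u * (c * c)⁻¹) * z⁻¹)

theorem map_cm {H : Type*} [Group H] (φ : G →* H) (a b : G) : φ (cm a b) = cm (φ a) (φ b) := by
  simp [cm]

theorem map_wordC {H : Type*} [Group H] (φ : G →* H) (u c z : G) :
    φ (wordC u c z) = wordC (φ u) (φ c) (φ z) := by
  simp [wordC, wordW]

theorem map_wordH {H : Type*} [Group H] (φ : G →* H) (u h c z : G) :
    φ (wordH u h c z) = wordH (φ u) (φ h) (φ c) (φ z) := by
  simp [wordH, wordY, map_cm]

/-- The outcome of the relations. -/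
def Forced (t : Fˣ) (u h c z : G) : Prop :=
  ∃ X Y : Multiplicative F →* G, TD t X h c ∧ IsY c X Y ∧
    (∀ a b, cm (Y (ofAdd a)) (TD.conjX (c * c) Y (ofAdd b)) = X (ofAdd (a * b))) ∧
    X (ofAdd 1) = u ∧ Y (ofAdd 1) = z ∧ h = wordH u h c z ∧ c = wordC u c z

theorem Y_eq {X Y : Multiplicative F →* G} {c : G} (hY : IsY c X Y) {t : F} {h : G}
    (hX : h * X (ofAdd 1) * h⁻¹ = X (ofAdd t)) :
    wordY (X (ofAdd 1)) h c = Y (ofAdd t) := by
  have := hY.1 t 1
  rw [mul_one] at this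
  rw [wordY, hX, ← this, TD.conjX_apply]

theorem forced_gen {t : Fˣ} {u h c z : G} {X Y : Multiplicative F →* G} (D : TD t X h c)
    (hY : IsY c X Y) (hXu : X (ofAdd 1) = u) (hYz : Y (ofAdd 1) = z)
    (hh : h = wordH u h c z) (hc : c = wordC u c z) :
    let N := Subgroup.closure {g | ∃ i j, i ≠ j ∧ ∃ a, g = xfam c X Y i j a}
    u ∈ N ∧ h ∈ N ∧ c ∈ N ∧ z ∈ N := by
  intro N
  have hmem : ∀ i j, i ≠ j → ∀ a, xfam c X Y i j a ∈ N := fun i j hij a =>
    Subgroup.subset_closure ⟨i, j, hij, a, rfl⟩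
  have eu : xfam c X Y 0 1 1 = u := by simp [xfam, hXu]
  have ez : xfam c X Y 0 2 1 = z := by simp [xfam, hYz]
  have e10 : xfam c X Y 1 0 1 = c * z * c⁻¹ := by
    simp (config := { decide := true }) [xfam, hYz]
  have e20 : ∀ a, xfam c X Y 2 0 a = c * c * X (ofAdd a) * (c * c)⁻¹ := fun a => by
    simp (config := { decide := true }) [xfam, pow_two]
  have hW : wordW u c z ∈ N := by
    rw [wordW, ← e10, ← eu]
    exact mul_mem (mul_mem (inv_mem (hmem _ _ (by decide) _)) (hmem _ _ (by decide) _))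
      (inv_mem (hmem _ _ (by decide) _))
  have hW' : c * wordW u c z * c⁻¹ ∈ N := by
    rw [wordW, ← e10, ← eu, ← conj_mul, ← conj_mul, ← conj_inv, xfam_shift D.c3, xfam_shift D.c3]
    exact mul_mem (mul_mem (inv_mem (hmem _ _ (by decide) _)) (hmem _ _ (by decide) _))
      (inv_mem (hmem _ _ (by decide) _))
  have hz : z ∈ N := ez ▸ hmem _ _ (by decide) _
  refine ⟨eu ▸ hmem _ _ (by decide) _, ?_, ?_, hz⟩
  · have eY : wordY u h c ∈ N := by
      rw [← hXu, Y_eq hY (by simpa using D.onX 1),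
        show Y (ofAdd (t : F)) = xfam c X Y 0 2 t by simp [xfam]]
      exact hmem _ _ (by decide) _
    have eX : c * c * (h⁻¹ * u⁻¹ * h) * (c * c)⁻¹ ∈ N := by
      have := D.onX.inv (-1)
      rw [inv_inv, ofAdd_neg, map_inv, hXu] at this
      rw [this, ← e20]
      exact hmem _ _ (by decide) _
    have eu20 : c * c * u * (c * c)⁻¹ ∈ N := by
      rw [← hXu, ← e20]
      exact hmem _ _ (by decide) _
    rw [hh]
    exact mul_mem (mul_mem (mul_mem eY eX) eY) (mul_mem (mul_mem (inv_mem hz) eu20) (inv_mem hz))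
  · rw [hc]
    exact mul_mem hW hW'

theorem model_forced {t : Fˣ} (ht : ∀ x : Fˣ, ∃ k : ℕ, t ^ k = x) :
    Forced t (mX F (ofAdd 1)) (mH t) (mC F) (mY F (ofAdd 1)) := by
  have D := mTD (F := F) ht
  refine ⟨mX F, mY F, D, mIsY, mSecond, rfl, rfl, ?_, ?_⟩
  · have e1 := D.onX 1
    rw [mul_one] at e1
    have e2 := D.onX.inv (-1)
    rw [inv_inv, ofAdd_neg, map_inv] at e2
    rw [wordH, Y_eq mIsY e1, e2]
    conv_lhs => rw [← mDiag_eq t]
    simp [ofAdd_neg]
  · conv_lhs => rw [← mC_eq]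
    simp [wordC, wordW, ofAdd_neg]

theorem sl3_iso_of [Finite F] {t : Fˣ} (ht : ∀ x : Fˣ, ∃ k : ℕ, t ^ k = x)
    (L : List (FreeGroup (Fin 4)))
    (htrue : ∀ r ∈ L,
      FreeGroup.lift ![mX F (ofAdd 1), mH t, mC F, mY F (ofAdd 1)] r = 1)
    (hforce : ∀ (G : Type) [Group G] (u h c z : G),
      (∀ r ∈ L, FreeGroup.lift ![u, h, c, z] r = 1) → Forced t u h c z) :
    ∃ e : PresentedGroup {r | r ∈ L} ≃* Matrix.SpecialLinearGroup (Fin 3) F,
      ∀ i, e (PresentedGroup.of i) = ![mX F (ofAdd 1), mH t, mC F, mY F (ofAdd 1)] i := by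
  classical
  set R : Set (FreeGroup (Fin 4)) := {r | r ∈ L} with hR
  set g : Fin 4 → PresentedGroup R := PresentedGroup.of with hg
  have hgl : FreeGroup.lift ![g 0, g 1, g 2, g 3] = PresentedGroup.mk R := by
    refine FreeGroup.ext_hom _ _ fun i => ?_
    rw [FreeGroup.lift_apply_of]
    fin_cases i <;> rfl
  obtain ⟨X, Y, D, hY, h2nd, hXu, hYz, hh, hc⟩ := hforce (PresentedGroup R) (g 0) (g 1) (g 2) (g 3)
    fun r hr => by rw [hgl]; exact PresentedGroup.one_of_mem hr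
  let φ : PresentedGroup R →* Matrix.SpecialLinearGroup (Fin 3) F :=
    PresentedGroup.toGroup (f := ![mX F (ofAdd 1), mH t, mC F, mY F (ofAdd 1)])
      fun r hr => htrue r hr
  have f0 : φ (g 0) = mX F (ofAdd 1) := PresentedGroup.toGroup.of _
  have f1 : φ (g 1) = mH t := PresentedGroup.toGroup.of _
  have f2 : φ (g 2) = mC F := PresentedGroup.toGroup.of _
  have hφX : ∀ a, φ (X (ofAdd a)) = mX F (ofAdd a) := by
    intro a
    rcases eq_or_ne a 0 with rfl | ha
    · simp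
    obtain ⟨k, hk⟩ := ht (Units.mk0 a ha)
    have e : a = ((t ^ k : Fˣ) : F) * 1 := by rw [hk, Units.val_mk0, mul_one]
    rw [e, ← D.onX.pow k, ← (mTD (F := F) ht).onX.pow k, map_mul, map_mul, map_inv, map_pow, f1,
      hXu, f0]
  have hφY : ∀ a, φ (Y (ofAdd a)) = mY F (ofAdd a) := by
    intro a
    have e1 := hY.1 a 1
    have e2 := (mIsY (F := F)).1 a 1
    rw [mul_one] at e1 e2
    rw [← e1, ← e2, map_cm, TD.conjX_apply, TD.conjX_apply]
    simp only [map_mul, map_inv, hφX, f2]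
  have hφx : ∀ i j a, i ≠ j → ((φ (xfam (g 2) X Y i j a) : Matrix.SpecialLinearGroup (Fin 3) F) :
      Matrix (Fin 3) (Fin 3) F) = Matrix.transvection i j a := by
    intro i j a hij
    rw [show φ (xfam (g 2) X Y i j a) = xfam (mC F) (mX F) (mY F) i j a by
      simp only [xfam]
      split <;> simp only [map_mul, map_inv, map_pow, f2, hφX, hφY]]
    exact xfam_model i j hij a
  have hgen : Subgroup.closure {x | ∃ i j, i ≠ j ∧ ∃ a, x = xfam (g 2) X Y i j a} = ⊤ := by
    obtain ⟨m0, m1, m2, m3⟩ := forced_gen D hY hXu hYz hh hc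
    rw [eq_top_iff, ← PresentedGroup.closure_range_of, Subgroup.closure_le]
    rintro _ ⟨i, rfl⟩
    fin_cases i
    exacts [m0, m1, m2, m3]
  have S := (stComm_xfam D hY h2nd).toRel (by decide)
  have hbij : Function.Bijective φ := by
    refine ⟨CfsgLib.SLSteinberg.exists_hom (xfam (g 2) X Y) S φ hφx hgen, ?_⟩
    rw [← MonoidHom.range_eq_top]
    exact CfsgLib.Classical.SL_le_of_transvections _ fun i j hij a =>
      ⟨xfam (g 2) X Y i j a, Subtype.ext (hφx i j a hij)⟩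
  refine ⟨MulEquiv.ofBijective φ hbij, fun i => ?_⟩
  show φ (PresentedGroup.of i) = _
  simp [φ]

theorem sl3_presentation_of [Finite F] {t : Fˣ} (ht : ∀ x : Fˣ, ∃ k : ℕ, t ^ k = x)
    (L : List (FreeGroup (Fin 4))) (hlen : L.length ≤ 14)
    (htrue : ∀ r ∈ L,
      FreeGroup.lift ![mX F (ofAdd 1), mH t, mC F, mY F (ofAdd 1)] r = 1)
    (hforce : ∀ (G : Type) [Group G] (u h c z : G),
      (∀ r ∈ L, FreeGroup.lift ![u, h, c, z] r = 1) → Forced t u h c z) :
    ∃ rels : Finset (FreeGroup (Fin 4)), rels.card ≤ 14 ∧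
      Nonempty (PresentedGroup (↑rels : Set (FreeGroup (Fin 4))) ≃*
        Matrix.SpecialLinearGroup (Fin 3) F) := by
  classical
  obtain ⟨e, -⟩ := sl3_iso_of ht L htrue hforce
  have hset : (↑L.toFinset : Set (FreeGroup (Fin 4))) = {r | r ∈ L} := List.coe_toFinset L
  exact ⟨L.toFinset, (List.toFinset_card_le L).trans hlen, hset ▸ ⟨e⟩⟩

/-- The four generators. -/
def g4 (i : Fin 4) : FreeGroup (Fin 4) := FreeGroup.of i

theorem lift_g4 (v : Fin 4 → G) (i : Fin 4) : FreeGroup.lift v (g4 i) = v i := by simp [g4]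

/-- Conjugate torus element. -/
def hp (h c : G) : G := c * h * c⁻¹

/-- The product of the three torus elements. -/
def hk (h c : G) : G := h * (c * h * c⁻¹) * (c⁻¹ * h * c)

theorem commute_hk {h c : G} (hc : c ^ 3 = 1) (hcomm : Commute h (c * h * c⁻¹)) :
    Commute h (hk h c) := by
  have h2 : Commute h (c⁻¹ * h * c) := by
    have := (hcomm.conj c⁻¹).symm
    rwa [inv_inv, show c⁻¹ * (c * h * c⁻¹) * c = h by group] at this
  exact ((Commute.refl h).mul_right hcomm).mul_right h2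

/-- The relations shared by all cases. -/
def baseRels : List (FreeGroup (Fin 4)) :=
  [g4 2 ^ 3, cm (g4 1) (hp (g4 1) (g4 2)),
    cm (g4 1 * g4 1 * hp (g4 1) (g4 2)) (g4 0),
    cm (g4 0) (g4 2 * g4 0 * (g4 2)⁻¹) * (g4 3)⁻¹,
    cm (g4 2 * g4 0 * (g4 2)⁻¹) (g4 3),
    cm (g4 3) (g4 2 * g4 2 * g4 3 * (g4 2 * g4 2)⁻¹) * (g4 0)⁻¹,
    g4 1 * (wordH (g4 0) (g4 1) (g4 2) (g4 3))⁻¹,
    g4 2 * (wordC (g4 0) (g4 2) (g4 3))⁻¹]

theorem cm_eq_one_iff {a b : G} : cm a b = 1 ↔ Commute a b := by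
  rw [cm_eq_iff, one_mul, mul_inv_eq_iff_eq_mul]; rfl

theorem base_sat {u h c z : G} :
    (∀ r ∈ baseRels, FreeGroup.lift ![u, h, c, z] r = 1) ↔
      c ^ 3 = 1 ∧ Commute h (c * h * c⁻¹) ∧ Commute (h * h * (c * h * c⁻¹)) u ∧
        cm u (c * u * c⁻¹) = z ∧ Commute (c * u * c⁻¹) z ∧
        cm z (c * c * z * (c * c)⁻¹) = u ∧ h = wordH u h c z ∧ c = wordC u c z := by
  simp [baseRels, map_cm, map_wordH, map_wordC, lift_g4, hp, cm_eq_one_iff, mul_inv_eq_one]

theorem base_true {t : Fˣ} (ht : ∀ x : Fˣ, ∃ k : ℕ, t ^ k = x) :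
    ∀ r ∈ baseRels, FreeGroup.lift ![mX F (ofAdd 1), mH t, mC F, mY F (ofAdd 1)] r = 1 := by
  obtain ⟨X₀, Y₀, D, hY₀, h₀, hu₀, hz₀, hh, hc⟩ := model_forced (F := F) ht
  have e1 := (mIsY (F := F)).1 1 1
  have e2 := mSecond (F := F) 1 1
  rw [one_mul, TD.conjX_apply] at e1 e2
  exact base_sat.2 ⟨D.c3, D.comm, (mTD0 ht).hcomm, e1, (mIsY (F := F)).2.2 1 1, e2, hh, hc⟩

theorem mkTD0 {t : Fˣ} (ht : ∀ x : Fˣ, ∃ k : ℕ, t ^ k = x) {u h c : G} (hc : c ^ 3 = 1)
    (hcomm : Commute h (c * h * c⁻¹)) (hk1 : hk h c = 1)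
    (hu : Commute (h * h * (c * h * c⁻¹)) u) (X : Multiplicative F →* G) (hX1 : X (ofAdd 1) = u)
    (hX : ∀ a, h * X (ofAdd a) * h⁻¹ = X (ofAdd ((t : F) * a))) : TD0 t X h c :=
  ⟨ht, hc, hcomm, hk1, hX, hX1.symm ▸ hu⟩

theorem forced_of_cubes [Fintype F] (h4 : Fintype.card F ≠ 4) {t : Fˣ} {u h c z : G}
    {X : Multiplicative F →* G} (D : TD t X h c) (hXu : X (ofAdd 1) = u)
    (hz : cm u (c * u * c⁻¹) = z) (hcu : Commute u z) (hcv : Commute (c * u * c⁻¹) z)
    (hsec : cm z (c * c * z * (c * c)⁻¹) = u) (hh : h = wordH u h c z) (hc : c = wordC u c z) :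
    Forced t u h c z := by
  have ez : cm (X (ofAdd 1)) (TD.conjX c X (ofAdd 1)) = z := by rw [TD.conjX_apply, hXu, hz]
  obtain ⟨Y, hY⟩ := D.exists_Y h4 (by rw [ez, hXu]; exact hcu)
    (by rw [ez, TD.conjX_apply, hXu]; exact hcv)
  have hYz : Y (ofAdd 1) = z := by rw [← ez, hY.1, one_mul]
  refine ⟨X, Y, D, hY, ?_, hXu, hYz, hh, hc⟩
  refine extend_comm (spans_cubes h4) ?_ Y (TD.conjX (c * c) Y) X
    (fun a b => (hY.2.1 b a).symm) fun a b ha hb h3 => ?_
  · rintro _ ⟨e, rfl⟩; exact pow_ne_zero 3 e.ne_zero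
  · refine D.second_seed hY one_ne_zero ?_ ha hb (by rwa [div_one])
    rw [TD.conjX_apply, hYz, hXu]
    exact hsec

theorem hgen_prim {t : Fˣ} (ht : ∀ x : Fˣ, ∃ k : ℕ, t ^ k = x) (c : F) :
    ∃ P : ℤ[X], aeval (t : F) P = c := by
  rcases eq_or_ne c 0 with rfl | hc
  · exact ⟨0, map_zero _⟩
  · obtain ⟨k, hk⟩ := ht (Units.mk0 c hc)
    refine ⟨Polynomial.X ^ k, ?_⟩
    have := congrArg Units.val hk
    simpa using this

theorem exists_tri [Fintype F] (hq : Fintype.card F ≠ 2) {t : Fˣ}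
    (ht : ∀ x : Fˣ, ∃ k : ℕ, t ^ k = x) : ∃ b : ℕ, (t : F) = (t : F) ^ b + 1 := by
  classical
  have h1 : (t : F) - 1 ≠ 0 := by
    intro h
    rw [sub_eq_zero] at h
    apply hq
    refine le_antisymm ?_ Fintype.one_lt_card
    refine le_trans (Finset.card_le_card (s := Finset.univ) (t := ({0, 1} : Finset F)) ?_)
      Finset.card_le_two
    intro c _
    rcases eq_or_ne c 0 with rfl | hc
    · simp
    · obtain ⟨k, hk⟩ := ht (Units.mk0 c hc)
      have := congrArg Units.val hk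
      simp [h] at this
      simp [← this]
  obtain ⟨b, hb⟩ := ht (Units.mk0 _ h1)
  refine ⟨b, ?_⟩
  have := congrArg Units.val hb
  simp at this
  rw [this, sub_add_cancel]

/-- At most six relations completing the shared ones. -/
def Completes.{v} {F : Type v} [Field F] (t : Fˣ) : Prop :=
  ∃ E : List (FreeGroup (Fin 4)), E.length ≤ 6 ∧
    (∀ r ∈ baseRels ++ E, FreeGroup.lift ![mX F (ofAdd 1), mH t, mC F, mY F (ofAdd 1)] r = 1) ∧
    ∀ (G : Type) [Group G] (u h c z : G),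
      (∀ r ∈ baseRels ++ E, FreeGroup.lift ![u, h, c, z] r = 1) → Forced t u h c z

theorem Completes.presentation [Finite F] {t : Fˣ} (ht : ∀ x : Fˣ, ∃ k : ℕ, t ^ k = x)
    (h : Completes t) :
    ∃ rels : Finset (FreeGroup (Fin 4)), rels.card ≤ 14 ∧
      Nonempty (PresentedGroup (↑rels : Set (FreeGroup (Fin 4))) ≃*
        Matrix.SpecialLinearGroup (Fin 3) F) := by
  obtain ⟨E, hE, h1, h2⟩ := h
  exact sl3_presentation_of ht (baseRels ++ E) (by simp [baseRels]; omega) h1 h2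

theorem sl3_two_completes [Fintype F] (hq : Fintype.card F = 2) {t : Fˣ}
    (ht : ∀ x : Fˣ, ∃ k : ℕ, t ^ k = x) : Completes t := by
  classical
  have hall : ∀ x : F, x = 0 ∨ x = 1 := by
    intro x
    by_contra hx
    push Not at hx
    have h3 := Finset.card_le_univ ({0, 1, x} : Finset F)
    rw [Finset.card_insert_of_notMem (by simp [hx.1.symm]),
      Finset.card_insert_of_notMem (by simp [hx.2.symm]), Finset.card_singleton, hq] at h3
    omega
  have ht1 : (t : F) = 1 := (hall t).resolve_left t.ne_zero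
  have : CharP F 2 := by
    have h2 : (2 : F) = 0 := by
      rw [← Nat.cast_ofNat, ← hq, FiniteField.cast_card_eq_zero]
    have : Fact (Nat.Prime 2) := ⟨Nat.prime_two⟩
    exact CharTwo.of_one_ne_zero_of_two_eq_zero one_ne_zero h2
  refine ⟨[g4 1, g4 0 ^ 2, cm (g4 0) (g4 3)], by simp, ?_, ?_⟩
  · intro r hr
    rw [List.mem_append] at hr
    rcases hr with hr | hr
    · exact base_true ht r hr
    · simp only [List.mem_cons, List.not_mem_nil, or_false] at hr
      have hmh : mH t = (1 : Matrix.SpecialLinearGroup (Fin 3) F) := by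
        rw [mH, show t = 1 from Units.ext ht1, mDiag_one]
      rcases hr with rfl | rfl | rfl <;>
        simp only [map_pow, map_cm, lift_g4, Matrix.cons_val]
      · exact hmh
      · exact CfsgLib.SL2Pres.hom_pow_char _
      · exact cm_eq_one_iff.2 ((mIsY (F := F)).2.1 1 1)
  · intro G _ u h c z hsat
    obtain ⟨hc3, hcomm, hu, hz, hcv, hsec, hh, hc⟩ :=
      base_sat.1 fun r hr => hsat r (List.mem_append.2 (Or.inl hr))
    have hx := fun r hr => hsat r (List.mem_append.2 (Or.inr hr))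
    simp [map_cm, lift_g4, cm_eq_one_iff] at hx
    obtain ⟨hh1, huu, hcu⟩ := hx
    obtain ⟨X, hX1⟩ := force_prime_two (F := F) hall u huu
    have D0 := mkTD0 ht hc3 hcomm (by simp [hk, hh1]) hu X hX1
      (fun a => by simp [hh1, ht1])
    exact forced_of_cubes (by omega) (D0.toTD_of_cube (by rw [show t = 1 from Units.ext ht1, one_pow]))
      hX1 hz hcu hcv hsec hh hc

theorem sl3_general_completes [Fintype F] {p : ℕ} [Fact p.Prime] [CharP F p]
    (hq2 : Fintype.card F ≠ 2) (h4 : Fintype.card F ≠ 4) {t : Fˣ}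
    (ht : ∀ x : Fˣ, ∃ k : ℕ, t ^ k = x) : Completes t := by
  letI : Algebra (ZMod p) F := ZMod.algebra F p
  obtain ⟨b, hb⟩ := exists_tri hq2 ht
  obtain ⟨f, hf0, hfker⟩ := CfsgLib.SL2Pres.poly_ker (p := p) (t : F)
  refine ⟨
    [cm (g4 0) (cj (g4 1) (g4 0) 1),
      cj (g4 1) (g4 0) 1 * (cj (g4 1) (g4 0) (b : ℤ) * g4 0)⁻¹,
      g4 0 ^ p * hk (g4 1) (g4 2),
      polyWord (g4 1) (g4 0) ((1 : ℕ) : ℤ) f,
      cm (g4 1 * hp (g4 1) (g4 2) * hp (g4 1) (g4 2)) (g4 3),
      cm (g4 0) (g4 3)], by simp, ?_, ?_⟩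
  · intro r hr
    rw [List.mem_append] at hr
    rcases hr with hr | hr
    · exact base_true ht r hr
    · have D := mTD (F := F) ht
      have hX : CfsgLib.SL2Pres.IsConjHom (t : F) (mX F) (mH t) := D.onX
      have e1 : cj (mH t) (mX F (ofAdd (1 : F))) (1 : ℤ) = mX F (ofAdd (t : F)) := by
        simpa using hX.cj_eq 1
      simp only [List.mem_cons, List.not_mem_nil, or_false] at hr
      rcases hr with rfl | rfl | rfl | rfl | rfl | rfl <;>
        simp only [map_mul, map_inv, map_pow, map_cm, map_cj, map_polyWord, lift_g4, hk, hp,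
          Matrix.cons_val, e1]
      · exact cm_eq_one_iff.2 ((Commute.all _ _).map _)
      · rw [hX.cj_eq, ← map_mul, ← ofAdd_add, ← hb, mul_inv_cancel]
      · rw [CfsgLib.SL2Pres.hom_pow_char (F := F), one_mul]
        exact D.prod
      · rw [hX.polyWord_eq, pow_one, hf0]; simp
      · refine cm_eq_one_iff.2 ?_
        have := D.fix13
        rwa [← TD.conjX_apply, mIsY.1, one_mul] at this
      · exact cm_eq_one_iff.2 ((mIsY (F := F)).2.1 1 1)
  · intro G _ u h c z hsat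
    obtain ⟨hc3, hcomm, hu, hz, hcv, hsec, hh, hc⟩ :=
      base_sat.1 fun r hr => hsat r (List.mem_append.2 (Or.inl hr))
    have hx := fun r hr => hsat r (List.mem_append.2 (Or.inr hr))
    simp only [List.mem_cons, List.not_mem_nil, or_false, forall_eq_or_imp, forall_eq, map_mul,
      map_inv, map_pow, map_cm, map_cj, map_polyWord, lift_g4, Matrix.cons_val, cm_eq_one_iff, hk,
      hp] at hx
    obtain ⟨hucomm, htri, hp', hf, hfix, hcu⟩ := hx
    obtain ⟨hk1, X, hX1, hX⟩ := force_general (F := F) (hgen_prim ht) hfker u h (hk h c)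
      (commute_hk hc3 hcomm) hucomm (mul_inv_eq_one.1 htri) hp' hf
    refine forced_of_cubes h4 { toTD0 := mkTD0 ht hc3 hcomm hk1 hu X hX1 hX, fix13 := ?_ }
      hX1 hz hcu hcv hsec hh hc
    rw [hX1, hz]
    exact hfix

theorem sl3_four_completes [Fintype F] (hq : Fintype.card F = 4) {t : Fˣ}
    (ht : ∀ x : Fˣ, ∃ k : ℕ, t ^ k = x) : Completes t := by
  classical
  have h2 : (2 : F) = 0 := by
    have : ((4 : ℕ) : F) = 0 := by rw [← hq, FiniteField.cast_card_eq_zero]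
    exact eq_zero_of_pow_eq_zero (n := 2) (by norm_num at this ⊢; linear_combination this)
  have : Fact (Nat.Prime 2) := ⟨Nat.prime_two⟩
  have : CharP F 2 := CharTwo.of_one_ne_zero_of_two_eq_zero one_ne_zero h2
  letI : Algebra (ZMod 2) F := ZMod.algebra F 2
  have hq2 : Fintype.card F ≠ 2 := by omega
  have ht3 : t ^ 3 = 1 := by
    refine Units.ext ?_
    rw [Units.val_pow_eq_pow_val, Units.val_one, show 3 = Fintype.card F - 1 by omega]
    exact FiniteField.pow_card_sub_one_eq_one _ t.ne_zero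
  have hinv : (t : F)⁻¹ = (t : F) ^ 2 :=
    inv_eq_of_mul_eq_one_right (by
      rw [← pow_succ', ← Units.val_pow_eq_pow_val, ht3, Units.val_one])
  have h3 : ∀ x : F, x ≠ 0 → x = 1 ∨ x = t ∨ x = (t : F)⁻¹ := by
    intro x hx
    obtain ⟨k, hk⟩ := ht (Units.mk0 x hx)
    have := congrArg Units.val hk
    rw [← Nat.mod_add_div k 3, pow_add, pow_mul, ht3, one_pow, mul_one,
      Units.val_pow_eq_pow_val, Units.val_mk0] at this
    have hm : k % 3 = 0 ∨ k % 3 = 1 ∨ k % 3 = 2 := by omega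
    rcases hm with e | e | e <;> rw [e] at this <;> simp [← this, hinv]
  have ht1 : (t : F) - 1 ≠ 0 := by
    intro h
    obtain ⟨b, hb⟩ := exists_tri hq2 ht
    rw [sub_eq_zero] at h
    rw [h, one_pow] at hb
    exact one_ne_zero (left_eq_add.1 hb)
  have htri : (t : F) = (t : F) ^ 2 + 1 := by
    refine mul_left_cancel₀ ht1 ?_
    have h31 : (t : F) ^ 3 = 1 := by rw [← Units.val_pow_eq_pow_val, ht3, Units.val_one]
    linear_combination -h31 + ((t : F) ^ 2 - t) * h2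
  obtain ⟨f, hf0, hfker⟩ := CfsgLib.SL2Pres.poly_ker (p := 2) (t : F)
  refine ⟨
    [g4 0 ^ 2, cj (g4 1) (g4 0) 1 * (cj (g4 1) (g4 0) (2 : ℤ) * g4 0)⁻¹,
      polyWord (g4 1) (g4 0) ((1 : ℕ) : ℤ) f * hk (g4 1) (g4 2),
      cm (g4 1 * g4 0 * (g4 1)⁻¹) (g4 2 * g4 0 * (g4 2)⁻¹)
        * (cm (g4 1 * (g4 1 * g4 0 * (g4 1)⁻¹) * (g4 1)⁻¹)
            (g4 2 * ((g4 1)⁻¹ * g4 0 * g4 1) * (g4 2)⁻¹))⁻¹,
      cm (g4 0) (g4 2 * (g4 1 * g4 0 * (g4 1)⁻¹) * (g4 2)⁻¹)
        * (cm (g4 1 * (g4 1 * g4 0 * (g4 1)⁻¹) * (g4 1)⁻¹)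
            (g4 2 * ((g4 1)⁻¹ * g4 0 * g4 1) * (g4 2)⁻¹))⁻¹,
      cm (wordY (g4 0) (g4 1) (g4 2)) (g4 2 * g4 2 * g4 3 * (g4 2 * g4 2)⁻¹)
        * (g4 1 * g4 0 * (g4 1)⁻¹)⁻¹], by simp, ?_, ?_⟩
  · intro r hr
    rw [List.mem_append] at hr
    rcases hr with hr | hr
    · exact base_true ht r hr
    · have D := mTD (F := F) ht
      have hX : CfsgLib.SL2Pres.IsConjHom (t : F) (mX F) (mH t) := D.onX
      have e1 : cj (mH t) (mX F (ofAdd (1 : F))) (1 : ℤ) = mX F (ofAdd (t : F)) := by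
        simpa using hX.cj_eq 1
      have e2 : cj (mH t) (mX F (ofAdd (1 : F))) (2 : ℤ) = mX F (ofAdd ((t : F) ^ 2)) := by
        simpa using hX.cj_eq 2
      have eX : mH t * mX F (ofAdd (1 : F)) * (mH t)⁻¹ = mX F (ofAdd (t : F)) := by
        simpa using D.onX 1
      have eXi : (mH t)⁻¹ * mX F (ofAdd (1 : F)) * mH t = mX F (ofAdd (t : F)⁻¹) := by
        simpa using D.onX.inv 1
      have eY : wordY (mX F (ofAdd (1 : F))) (mH t) (mC F) = mY F (ofAdd (t : F)) :=
        Y_eq mIsY eX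
      have eV : ∀ a : F, mC F * mX F (ofAdd a) * (mC F)⁻¹ = TD.conjX (mC F) (mX F) (ofAdd a) :=
        fun a => rfl
      have eW : ∀ a : F, mC F * mC F * mY F (ofAdd a) * (mC F * mC F)⁻¹
          = TD.conjX (mC F * mC F) (mY F) (ofAdd a) := fun a => rfl
      simp only [List.mem_cons, List.not_mem_nil, or_false] at hr
      rcases hr with rfl | rfl | rfl | rfl | rfl | rfl <;>
        simp only [map_mul, map_inv, map_pow, map_cm, map_cj, map_polyWord, wordY, lift_g4, hk,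
          Matrix.cons_val, e1, e2]
      · exact CfsgLib.SL2Pres.hom_pow_char _
      · rw [← map_mul, ← ofAdd_add, ← htri, mul_inv_cancel]
      · rw [hX.polyWord_eq, pow_one, hf0, D.prod]; simp
      · rw [eX, eXi, D.onX, eV, eV, mIsY.1, mIsY.1, mul_one, mul_assoc, mul_inv_cancel₀ t.ne_zero,
          mul_one, mul_inv_cancel]
      · rw [eX, eXi, D.onX, eV, eV, mIsY.1, mIsY.1, one_mul, mul_assoc, mul_inv_cancel₀ t.ne_zero,
          mul_one, mul_inv_cancel]
      · rw [wordY] at eY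
        rw [eY, eX, eW, mSecond, mul_one, mul_inv_cancel]
  · intro G _ u h c z hsat
    obtain ⟨hc3, hcomm, hu, hz, hcv, hsec, hh, hc⟩ :=
      base_sat.1 fun r hr => hsat r (List.mem_append.2 (Or.inl hr))
    have hx := fun r hr => hsat r (List.mem_append.2 (Or.inr hr))
    simp only [List.mem_cons, List.not_mem_nil, or_false, forall_eq_or_imp, forall_eq, map_mul,
      map_inv, map_pow, map_cm, map_cj, map_polyWord, wordY, lift_g4, hk, Matrix.cons_val,
      mul_inv_eq_one] at hx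
    obtain ⟨huu, htri', hf, hs1, hs2, hs3⟩ := hx
    obtain ⟨hk1, X, hX1, hX⟩ := force_two (F := F) (b := 2) (hgen_prim ht) hfker u h (hk h c)
      (commute_hk hc3 hcomm) huu htri' hf
    have D := (mkTD0 ht hc3 hcomm hk1 hu X hX1 hX).toTD_of_cube ht3
    have eX : h * u * h⁻¹ = X (ofAdd (t : F)) := by rw [← hX1, hX, mul_one]
    have eXi : h⁻¹ * u * h = X (ofAdd (t : F)⁻¹) := by
      have := D.onX.inv 1
      rwa [inv_inv, hX1, mul_one, Units.val_inv_eq_inv_val] at this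
    rw [eX, eXi, hX, ← pow_two] at hs1 hs2
    obtain ⟨Y, hY⟩ := D.exists_Y_four h2 h3
      (by rw [TD.conjX_apply, hX1, hz]; exact hcv)
      (by rw [TD.Zf, TD.conjX_apply, TD.conjX_apply, hX1]; exact hs1)
      (by rw [TD.Zf, TD.conjX_apply, TD.conjX_apply, hX1]; exact hs2)
    have hYz : Y (ofAdd 1) = z := by
      rw [← hz, ← hX1, ← TD.conjX_apply, hY.1, one_mul]
    refine ⟨X, Y, D, hY, ?_, hX1, hYz, hh, hc⟩
    have sp : Spans ({1, (t : F)} : Set F) := by
      intro P h0 hadd hbase a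
      have p1 := hbase 1 (by simp)
      have pt := hbase (t : F) (by simp)
      rcases eq_or_ne a 0 with rfl | ha
      · exact h0
      rcases h3 a ha with rfl | rfl | rfl
      · exact p1
      · exact pt
      · rw [hinv, show (t : F) ^ 2 = t + 1 by linear_combination -htri + (-1 : F) * h2]
        exact hadd _ _ pt p1
    refine extend_comm sp ?_ Y (TD.conjX (c * c) Y) X (fun a b => (hY.2.1 b a).symm)
      fun a b ha hb hr => ?_
    · rintro r (rfl | rfl)
      exacts [one_ne_zero, t.ne_zero]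
    have one_cube : (1 : F) ∈ cubes F := ⟨1, by simp⟩
    rcases hr with e | e
    · refine D.second_seed hY one_ne_zero ?_ ha hb (by rw [e, div_one]; exact one_cube)
      rw [TD.conjX_apply, hYz, hX1]
      exact hsec
    · refine D.second_seed hY t.ne_zero ?_ ha hb
        (by rw [show a / b = (t : F) from e, div_self t.ne_zero]; exact one_cube)
      rw [TD.conjX_apply, hYz]
      have eY := Y_eq hY (h := h) (by rw [hX, mul_one])
      rw [wordY, hX1, eX] at eY
      rw [← eY, ← eX]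
      exact hs3

theorem sl3_two [Fintype F] (hq : Fintype.card F = 2) {t : Fˣ}
    (ht : ∀ x : Fˣ, ∃ k : ℕ, t ^ k = x) :
    ∃ rels : Finset (FreeGroup (Fin 4)), rels.card ≤ 14 ∧
      Nonempty (PresentedGroup (↑rels : Set (FreeGroup (Fin 4))) ≃*
        Matrix.SpecialLinearGroup (Fin 3) F) :=
  (sl3_two_completes hq ht).presentation ht

theorem sl3_four [Fintype F] (hq : Fintype.card F = 4) {t : Fˣ}
    (ht : ∀ x : Fˣ, ∃ k : ℕ, t ^ k = x) :
    ∃ rels : Finset (FreeGroup (Fin 4)), rels.card ≤ 14 ∧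
      Nonempty (PresentedGroup (↑rels : Set (FreeGroup (Fin 4))) ≃*
        Matrix.SpecialLinearGroup (Fin 3) F) :=
  (sl3_four_completes hq ht).presentation ht

theorem sl3_general [Fintype F] {p : ℕ} [Fact p.Prime] [CharP F p]
    (hq2 : Fintype.card F ≠ 2) (h4 : Fintype.card F ≠ 4) {t : Fˣ}
    (ht : ∀ x : Fˣ, ∃ k : ℕ, t ^ k = x) :
    ∃ rels : Finset (FreeGroup (Fin 4)), rels.card ≤ 14 ∧
      Nonempty (PresentedGroup (↑rels : Set (FreeGroup (Fin 4))) ≃*
        Matrix.SpecialLinearGroup (Fin 3) F) :=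
  (sl3_general_completes (p := p) hq2 h4 ht).presentation ht

theorem exists_completes [Fintype F] {t : Fˣ} (ht : ∀ x : Fˣ, ∃ k : ℕ, t ^ k = x) :
    Completes t := by
  obtain ⟨p, hp⟩ := CharP.exists F
  have : Fact p.Prime := ⟨CharP.char_is_prime F p⟩
  by_cases h2 : Fintype.card F = 2
  · exact sl3_two_completes h2 ht
  by_cases h4 : Fintype.card F = 4
  · exact sl3_four_completes h4 ht
  exact sl3_general_completes (p := p) h2 h4 ht

end CfsgLib.SL3Pres
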